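import Cfsg.Agent.Schur.PcCover
import Cfsg.Agent.Schur.CoverBound
import Cfsg.Agent.MultPSL.Main

/-!
# Central extensions given by tables of permutations of a set of fibres

The points are `0 … p*M - 1`, the fibre of `p*m` being `p*m … p*m + p - 1`. The element with number
`n` is the shift along the fibres; the ones before it are the generators; the later ones are words in
the earlier ones. All of them commute with the shift, so two products of them are equal as soon as
they agree on the first point of every fibre.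
-/

set_option autoImplicit false
set_option linter.style.haveILetI false

namespace CfsgLib.CoverTab

open CfsgLib.Schur.Pc (ev)

/-- `p k` for all `k < n`, by recursion on `n`. -/
noncomputable def below (n : ℕ) (p : ℕ → Bool) : Bool :=
  Nat.rec true (fun k ih => Bool.and (p k) ih) n

theorem below_iff {p : ℕ → Bool} : ∀ {n : ℕ}, below n p = true ↔ ∀ i < n, p i = true
  | 0 => by simp [below]
  | n + 1 => by
    show (p n && below n p) = true ↔ _
    rw [Bool.and_eq_true, below_iff]
    constructor
    · intro h i hi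
      rcases Nat.lt_succ_iff_lt_or_eq.1 hi with h' | rfl
      exacts [h.2 i h', h.1]
    · exact fun h => ⟨h n (Nat.lt_succ_self n), fun i hi => h i (Nat.lt_succ_of_lt hi)⟩

/-- All lists of numbers below `2 ^ d` in the list are distinct, by splitting along the bits. -/
noncomputable def nodupBits (d : ℕ) : List ℕ → Bool :=
  Nat.rec (fun l => Nat.ble l.length 1)
    (fun k ih l => Bool.or (Nat.ble l.length 1) (Bool.and (ih (l.filter fun a => Nat.testBit a k))
      (ih (l.filter fun a => !Nat.testBit a k)))) d

theorem nodupBits_sound : ∀ (d : ℕ) (l : List ℕ), nodupBits d l = true → l.Nodup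
  | 0, l, h => by
    have h' : l.length ≤ 1 := Nat.le_of_ble_eq_true h
    match l, h' with
    | [], _ => exact List.nodup_nil
    | [a], _ => exact List.nodup_singleton a
  | d + 1, l, h => by
    have h0 : (Nat.ble l.length 1 || (nodupBits d (l.filter fun a => Nat.testBit a d) &&
        nodupBits d (l.filter fun a => !Nat.testBit a d))) = true := h
    rw [Bool.or_eq_true, Bool.and_eq_true] at h0
    rcases h0 with h0 | h'
    · exact nodupBits_sound 0 l h0
    rw [List.nodup_iff_count_le_one]
    intro a
    cases hb : a.testBit d with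
    | true =>
      rw [← List.count_filter (p := fun a => Nat.testBit a d) hb]
      exact List.nodup_iff_count_le_one.1 (nodupBits_sound d _ h'.1) a
    | false =>
      rw [← List.count_filter (p := fun a => !Nat.testBit a d) (a := a) (by simp [hb])]
      exact List.nodup_iff_count_le_one.1 (nodupBits_sound d _ h'.2) a

/-- A property of all numbers below `m * c` from its truth on `m` blocks of length `c`. -/
theorem of_blocks {f : ℕ → Bool} {n m c : ℕ} (hn : n ≤ m * c)
    (h : ∀ j < m, (List.range' (j * c) c).all f = true) : ∀ k < n, f k = true := by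
  intro k hk
  have hc : 0 < c := Nat.pos_of_ne_zero fun e => by rw [e, Nat.mul_zero] at hn; omega
  refine List.all_eq_true.1 (h (k / c) (Nat.div_lt_iff_lt_mul hc |>.2 (by omega))) k
    (List.mem_range'_1.2 ⟨Nat.div_mul_le_self k c, ?_⟩)
  have := Nat.lt_div_mul_add (a := k) hc
  omega

/-- Tables: `w` bits for a point, `M` fibres of `p` points, `n` generators, the permutations, their
inverses, and the words of the later permutations in the earlier ones. -/
structure Sys where
  p : ℕ
  M : ℕ
  w : ℕ
  n : ℕ
  T : List ℕ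
  Ti : List ℕ
  defs : List (List ℕ)

namespace Sys

variable (S : Sys)

/-- The number of points. -/
abbrev N : ℕ := S.p * S.M

/-- The image of a point in a table. -/
def app (t i : ℕ) : ℕ := Nat.mod (Nat.shiftRight t (Nat.mul S.w i)) (2 ^ S.w)

/-- A table. -/
def tab (a : ℕ) : ℕ := S.T.getD a 0

/-- The tables of a word. -/
def tabs (u : List ℕ) : List ℕ := u.map S.tab

/-- The image of a point under a list of tables, the last one acting first. -/
noncomputable def imgT (ts : List ℕ) (i : ℕ) : ℕ := List.rec i (fun t _ ih => S.app t ih) ts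

/-- All letters are numbers of tables. -/
def lettersOK (u : List ℕ) : Bool := u.all fun a => Nat.blt a S.T.length

/-- A table and its inverse. -/
noncomputable def validAt (a : ℕ) : Bool :=
  below S.N fun i =>
    Nat.blt (S.app (S.tab a) i) S.N && Nat.beq (S.app (S.Ti.getD a 0) (S.app (S.tab a) i)) i

/-- The shift moves each point one step along its fibre. -/
noncomputable def shiftOK : Bool :=
  below S.N fun i =>
    Nat.beq (S.app (S.tab S.n) i) (S.p * (i / S.p) + (i + 1) % S.p)

/-- A table commutes with the shift. -/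
noncomputable def centralAt (a : ℕ) : Bool :=
  below S.N fun i =>
    Nat.beq (S.app (S.tab a) (S.app (S.tab S.n) i)) (S.app (S.tab S.n) (S.app (S.tab a) i))

/-- Two words agree on the first point of every fibre. -/
noncomputable def same (u v : List ℕ) : Bool :=
  S.lettersOK u && S.lettersOK v &&
    below S.M fun m =>
      Nat.beq (S.imgT (S.tabs u) (S.p * m)) (S.imgT (S.tabs v) (S.p * m))

/-- The later tables are the words given for them. -/
noncomputable def defsOK : Bool :=
  Nat.beq S.T.length (S.n + 1 + S.defs.length) &&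
    (List.range S.defs.length).all fun k =>
      (S.defs.getD k []).all (fun a => Nat.blt a (S.n + 1 + k)) &&
        S.same [S.n + 1 + k] (S.defs.getD k [])

/-- All the structural checks. -/
noncomputable def OK : Bool :=
  Nat.blt 0 S.p && Nat.blt S.n S.T.length &&
    (List.range S.T.length).all (fun a => S.validAt a) && S.shiftOK &&
      (List.range S.T.length).all (fun a => S.centralAt a) && S.defsOK

theorem OK_of {S : Sys} (h0 : (Nat.blt 0 S.p && Nat.blt S.n S.T.length) = true)
    (hv : ∀ a < S.T.length, S.validAt a = true) (hs : S.shiftOK = true)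
    (hc : ∀ a < S.T.length, S.centralAt a = true) (hd : S.defsOK = true) : S.OK = true := by
  simp only [Bool.and_eq_true] at h0
  simp only [OK, Bool.and_eq_true, List.all_eq_true, List.mem_range]
  exact ⟨⟨⟨⟨h0, hv⟩, hs⟩, hc⟩, hd⟩

open Classical in
/-- The permutation of a table. -/
noncomputable def el (a : ℕ) : Equiv.Perm (Fin S.N) :=
  if h : a < S.T.length ∧ S.validAt a = true then
    Equiv.ofBijective
      (fun i => ⟨S.app (S.tab a) i, by
        have h2 := h.2
        simp only [validAt, below_iff, Bool.and_eq_true] at h2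
        exact Nat.le_of_ble_eq_true (h2 i.1 i.2).1⟩)
      (Finite.injective_iff_bijective.1 fun i j e => by
        have h2 := h.2
        simp only [validAt, below_iff, Bool.and_eq_true] at h2
        have e' : S.app (S.tab a) i = S.app (S.tab a) j := congrArg Fin.val e
        apply Fin.ext
        rw [← Nat.eq_of_beq_eq_true (h2 i.1 i.2).2, e', Nat.eq_of_beq_eq_true (h2 j.1 j.2).2])
  else 1

theorem el_apply {S : Sys} (hS : S.OK = true) {a : ℕ} (ha : a < S.T.length) (i : Fin S.N) :
    ((S.el a i) : ℕ) = S.app (S.tab a) i := by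
  simp only [OK, Bool.and_eq_true, List.all_eq_true, List.mem_range] at hS
  rw [el, dif_pos ⟨ha, hS.1.1.1.2 a ha⟩]
  rfl

theorem ev_apply {S : Sys} (hS : S.OK = true) :
    ∀ {u : List ℕ}, S.lettersOK u = true → ∀ i : Fin S.N,
      ((ev S.el u i : Fin S.N) : ℕ) = S.imgT (S.tabs u) i
  | [], _, i => rfl
  | a :: u, h, i => by
    simp only [lettersOK, List.all_cons, Bool.and_eq_true] at h
    rw [Schur.Pc.ev_cons, Equiv.Perm.mul_apply, el_apply hS (Nat.le_of_ble_eq_true h.1),
      ev_apply hS (u := u) h.2 i]
    rfl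

theorem p_pos {S : Sys} (hS : S.OK = true) : 0 < S.p := by
  simp only [OK, Bool.and_eq_true] at hS
  exact Nat.le_of_ble_eq_true hS.1.1.1.1.1

theorem n_lt {S : Sys} (hS : S.OK = true) : S.n < S.T.length := by
  simp only [OK, Bool.and_eq_true] at hS
  exact Nat.le_of_ble_eq_true hS.1.1.1.1.2

theorem el_comm {S : Sys} (hS : S.OK = true) (a : ℕ) : Commute (S.el a) (S.el S.n) := by
  by_cases ha : a < S.T.length
  · refine Equiv.ext fun i => Fin.ext ?_
    have hc := hS
    simp only [OK, Bool.and_eq_true, List.all_eq_true, List.mem_range] at hc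
    have h := hc.1.2 a ha
    simp only [centralAt, below_iff] at h
    rw [Equiv.Perm.mul_apply, Equiv.Perm.mul_apply, el_apply hS ha, el_apply hS (n_lt hS),
      el_apply hS (n_lt hS), el_apply hS ha]
    exact Nat.eq_of_beq_eq_true (h i.1 i.2)
  · have : S.el a = 1 := by rw [el, dif_neg (fun h => ha h.1)]
    rw [this]; exact Commute.one_left _

theorem ev_comm {S : Sys} (hS : S.OK = true) (u : List ℕ) : Commute (ev S.el u) (S.el S.n) := by
  induction u with
  | nil => exact Commute.one_left _
  | cons a u ih => rw [Schur.Pc.ev_cons]; exact (el_comm hS a).mul_left ih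

theorem shift_pow {S : Sys} (hS : S.OK = true) (m : ℕ) (hm : S.p * m < S.N) :
    ∀ k, ((S.el S.n ^ k) ⟨S.p * m, hm⟩ : ℕ) = S.p * m + k % S.p := by
  intro k
  induction k with
  | zero => simp
  | succ k ih =>
    rw [pow_succ', Equiv.Perm.mul_apply, el_apply hS (n_lt hS), ih]
    have hc := hS
    simp only [OK, Bool.and_eq_true] at hc
    have h := hc.1.1.2
    simp only [shiftOK, below_iff] at h
    have hlt : k % S.p < S.p := Nat.mod_lt _ (p_pos hS)
    have hb : S.p * m + k % S.p < S.N := by
      rw [← ih]; exact Fin.isLt _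
    rw [Nat.eq_of_beq_eq_true (h _ hb), Nat.mul_add_div (p_pos hS), Nat.div_eq_of_lt hlt,
      Nat.add_zero, Nat.add_assoc, Nat.mul_add_mod, Nat.mod_add_mod]

theorem same_sound {S : Sys} (hS : S.OK = true) {u v : List ℕ} (h : S.same u v = true) :
    ev S.el u = ev S.el v := by
  simp only [same, Bool.and_eq_true, below_iff] at h
  obtain ⟨⟨hu, hv⟩, hp⟩ := h
  refine Equiv.ext fun i => ?_
  have hp0 := p_pos hS
  have hm : i.1 / S.p < S.M := Nat.div_lt_of_lt_mul i.2
  have hlt : S.p * (i.1 / S.p) < S.N := Nat.mul_lt_mul_of_pos_left hm hp0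
  have hi : i = (S.el S.n ^ (i.1 % S.p)) ⟨S.p * (i.1 / S.p), hlt⟩ := by
    refine Fin.ext ?_
    rw [shift_pow hS _ hlt, Nat.mod_mod, Nat.div_add_mod]
  have key : ∀ y, Commute (ev S.el y) (S.el S.n) → ev S.el y i =
      (S.el S.n ^ (i.1 % S.p)) (ev S.el y ⟨S.p * (i.1 / S.p), hlt⟩) := by
    intro y hy
    conv_lhs => rw [hi]
    rw [← Equiv.Perm.mul_apply, (hy.pow_right _).eq, Equiv.Perm.mul_apply]
  rw [key u (ev_comm hS u), key v (ev_comm hS v)]
  refine congrArg _ (Fin.ext ?_)
  rw [ev_apply hS hu, ev_apply hS hv]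
  exact Nat.eq_of_beq_eq_true (hp _ hm)

/-- The group of the tables. -/
noncomputable def grp : Subgroup (Equiv.Perm (Fin S.N)) :=
  Subgroup.closure {g | ∃ a, a ≤ S.n ∧ S.el a = g}

theorem el_mem_grp {S : Sys} (hS : S.OK = true) : ∀ a, S.el a ∈ S.grp := by
  intro a
  induction a using Nat.strong_induction_on with
  | _ a ih =>
    by_cases h1 : a ≤ S.n
    · exact Subgroup.subset_closure ⟨a, h1, rfl⟩
    by_cases h2 : a < S.T.length
    · have hc := hS
      simp only [OK, defsOK, Bool.and_eq_true, List.all_eq_true, List.mem_range] at hc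
      have hlen := Nat.eq_of_beq_eq_true hc.2.1
      obtain ⟨hlt, hsame⟩ := hc.2.2 (a - (S.n + 1)) (by omega)
      have e : S.n + 1 + (a - (S.n + 1)) = a := by omega
      rw [e] at hsame hlt
      have := same_sound hS hsame
      rw [Schur.Pc.ev_cons, Schur.Pc.ev_nil, mul_one] at this
      rw [this]
      exact Schur.Pc.ev_mem _ fun b hb => ih b (Nat.le_of_ble_eq_true (hlt b hb))
    · rw [el, dif_neg fun h => h2 h.1]; exact one_mem _

/-- The elements of the group. -/
noncomputable def x (hS : S.OK = true) (a : ℕ) : S.grp := ⟨S.el a, el_mem_grp hS a⟩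

theorem coe_ev {S : Sys} (hS : S.OK = true) (u : List ℕ) :
    ((ev (S.x hS) u : S.grp) : Equiv.Perm (Fin S.N)) = ev S.el u :=
  Schur.Pc.map_ev (S.x hS) S.grp.subtype u

theorem same_grp {S : Sys} (hS : S.OK = true) {u v : List ℕ} (h : S.same u v = true) :
    ev (S.x hS) u = ev (S.x hS) v :=
  Subtype.ext (by rw [coe_ev, coe_ev]; exact same_sound hS h)

theorem closure_x {S : Sys} (hS : S.OK = true) :
    Subgroup.closure {g : S.grp | ∃ a, a ≤ S.n ∧ S.x hS a = g} = ⊤ := by
  refine Subgroup.map_injective S.grp.subtype_injective ?_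
  rw [MonoidHom.map_closure, ← MonoidHom.range_eq_map, Subgroup.range_subtype]
  show _ = Subgroup.closure {g | ∃ a, a ≤ S.n ∧ S.el a = g}
  congr 1
  ext g
  constructor
  · rintro ⟨_, ⟨a, ha, rfl⟩, rfl⟩; exact ⟨a, ha, rfl⟩
  · rintro ⟨a, ha, rfl⟩; exact ⟨S.x hS a, ⟨a, ha, rfl⟩, rfl⟩

theorem shift_central {S : Sys} (hS : S.OK = true) : S.x hS S.n ∈ Subgroup.center S.grp := by
  rw [Subgroup.mem_center_iff]
  intro g
  have : g ∈ Subgroup.closure {g : S.grp | ∃ a, a ≤ S.n ∧ S.x hS a = g} := by
    rw [closure_x hS]; trivial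
  induction this using Subgroup.closure_induction with
  | mem g hg => obtain ⟨a, -, rfl⟩ := hg; exact Subtype.ext (el_comm hS a).eq
  | one => rw [one_mul, mul_one]
  | mul a b _ _ ha hb => rw [mul_assoc, hb, ← mul_assoc, ha, mul_assoc]
  | inv a _ ha => exact (Commute.inv_left (show Commute a (S.x hS S.n) from ha)).eq

theorem orderOf_shift {S : Sys} (hS : S.OK = true) (hM : 0 < S.M) :
    orderOf (S.x hS S.n) = S.p := by
  have hp := p_pos hS
  have h0 : S.p * 0 < S.N := Nat.mul_lt_mul_of_pos_left hM hp
  rw [← Subgroup.orderOf_coe]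
  show orderOf (S.el S.n) = S.p
  rw [orderOf_eq_iff hp]
  refine ⟨Equiv.ext fun i => ?_, fun k hk hk0 e => ?_⟩
  · have hm : i.1 / S.p < S.M := Nat.div_lt_of_lt_mul i.2
    have hlt : S.p * (i.1 / S.p) < S.N := Nat.mul_lt_mul_of_pos_left hm hp
    have hi : i = (S.el S.n ^ (i.1 % S.p)) ⟨S.p * (i.1 / S.p), hlt⟩ := by
      refine Fin.ext ?_
      rw [shift_pow hS _ hlt, Nat.mod_mod, Nat.div_add_mod]
    conv_lhs => rw [hi, ← Equiv.Perm.mul_apply, ← pow_add]
    refine Fin.ext ?_
    rw [shift_pow hS _ hlt, Nat.add_mod_left, Nat.mod_mod, Equiv.Perm.one_apply, Nat.div_add_mod]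
  · have h := shift_pow hS 0 h0 k
    rw [e, Equiv.Perm.one_apply, Nat.mod_eq_of_lt hk] at h
    have h' : S.p * 0 = S.p * 0 + k := h
    omega

end Sys

/-- Pairwise distinct numbers, with the ones seen so far in a bit mask. -/
def nodupMask : List ℕ → ℕ → Bool
  | [], _ => true
  | a :: l, acc => !Nat.testBit acc a && nodupMask l (Nat.lor acc (Nat.shiftLeft 1 a))

theorem nodupMask_sound : ∀ (l : List ℕ) (acc : ℕ), nodupMask l acc = true →
    l.Nodup ∧ ∀ a ∈ l, acc.testBit a = false
  | [], _, _ => by simp
  | a :: l, acc, h => by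
    simp only [nodupMask, Bool.and_eq_true, Bool.not_eq_true'] at h
    obtain ⟨h1, h2⟩ := nodupMask_sound l _ h.2
    have h3 : ∀ b ∈ l, acc.testBit b = false ∧ b ≠ a := by
      intro b hb
      have h4 := h2 b hb
      rw [show Nat.lor acc (Nat.shiftLeft 1 a) = acc ||| 1 <<< a from rfl, Nat.testBit_or,
        Bool.or_eq_false_iff, Nat.shiftLeft_eq, Nat.one_mul] at h4
      refine ⟨h4.1, fun e => ?_⟩
      rw [e, Nat.testBit_two_pow_self] at h4
      simp at h4
    refine ⟨List.nodup_cons.2 ⟨fun ha => (h3 a ha).2 rfl, h1⟩, ?_⟩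
    intro b hb
    rcases List.mem_cons.1 hb with rfl | hb
    exacts [h.1, (h3 b hb).1]

end CfsgLib.CoverTab
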