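import Cfsg.Agent.CoverTab.Mult
import Cfsg.Agent.ChevCollect.CentralData
import Cfsg.Agent.S1078

/-!
# Tables satisfying the Steinberg relations up to the shift
-/

set_option autoImplicit false
set_option linter.style.haveILetI false

namespace CfsgLib.CoverTab

open Cfsg.Lie CfsgLib.ChevCollect
open CfsgLib.Schur.Pc (ev)
open scoped MatrixGroups

namespace Sys

variable (S : Sys)

/-- The exponent of the shift between two words, read at the point `0`. -/
noncomputable def shiftExp (u v : List ℕ) : ℕ :=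
  (S.imgT (S.tabs u) 0 + S.p - S.imgT (S.tabs v) 0 % S.p) % S.p

/-- Two words agree up to the shift. -/
noncomputable def sameMod (u v : List ℕ) : Bool :=
  S.same u (List.replicate (S.shiftExp u v) S.n ++ v)

/-- Additivity of the root `r` up to the shift, over a listed field. -/
noncomputable def addOK {K : Type} [Field K] (ks : List K) (g : ℕ → K → List ℕ) (r : ℕ) : Bool :=
  ks.all fun t => ks.all fun u => S.sameMod (g r (t + u)) (g r t ++ g r u)

/-- The commutator formula for two roots up to the shift. -/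
noncomputable def commOK {K : Type} [Field K] (D : ChevalleyDatum) (ks : List K)
    (g : ℕ → K → List ℕ) (r s : ℕ) : Bool :=
  Nat.beq s r || Nat.beq s (D.neg r) ||
    ks.all fun t => ks.all fun u =>
      S.sameMod (g s (-u) ++ g r (-t) ++ g s u ++ g r t)
        ((D.commWord K r s t u).flatMap fun p => g p.1 p.2)

/-- The Steinberg relations of the root `r` up to the shift, over a listed field. -/
noncomputable def relRow {K : Type} [Field K] (D : ChevalleyDatum) (ks : List K)
    (g : ℕ → K → List ℕ) (r : ℕ) : Bool :=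
  S.addOK ks g r && (List.range D.nroots).all fun s => S.commOK D ks g r s

theorem relRow_of {K : Type} [Field K] {D : ChevalleyDatum} {ks : List K} {g : ℕ → K → List ℕ}
    {r : ℕ} (h1 : S.addOK ks g r = true) (h2 : ∀ s < D.nroots, S.commOK D ks g r s = true) :
    S.relRow D ks g r = true := by
  simp only [relRow, Bool.and_eq_true, List.all_eq_true, List.mem_range]
  exact ⟨h1, h2⟩

theorem exists_tau {S : Sys} (hS : S.OK = true) {K : Type} [Field K] [Finite K]
    {D : ChevalleyDatum} (hD : D ∈ [chevG2, chevF4, chevE8]) (ks : List K) (hks : ∀ t : K, t ∈ ks)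
    (hK : D ∈ [chevB2, chevG2] → ∃ x : K, x ≠ 0 ∧ x ≠ 1) (hsimple : IsSimpleGroup ↥(D.group K))
    (g : ℕ → K → List ℕ) (hout : ∀ r, ¬ r < D.nroots → ∀ t, g r t = [])
    (hrel : ∀ r < D.nroots, S.relRow D ks g r = true) (hgen : ∀ a < S.n, ∃ r t, g r t = [a])
    (hM : 0 < S.M) {a : ℕ} (ha : a < S.n) (hmove : (Nat.ble S.p (S.app (S.tab a) 0)) = true) :
    ∃ τ : S.grp →* ↥(D.group K), Function.Surjective τ ∧
      τ.ker = Subgroup.zpowers (S.x hS S.n) := by
  let Z := Subgroup.zpowers (S.x hS S.n)
  have hZc : Z ≤ Subgroup.center S.grp := Subgroup.zpowers_le.2 (shift_central hS)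
  haveI : Z.Normal := ⟨fun z hz y => by
    rw [(Subgroup.mem_center_iff.1 (hZc hz)) y, mul_inv_cancel_right]; exact hz⟩
  let π := QuotientGroup.mk' Z
  let f : ℕ → K → S.grp ⧸ Z := fun r t => π (ev (S.x hS) (g r t))
  have hmod : ∀ {u v : List ℕ}, S.sameMod u v = true →
      π (ev (S.x hS) u) = π (ev (S.x hS) v) := by
    intro u v h
    rw [same_grp hS h, Schur.Pc.ev_append, Schur.Pc.ev_replicate, map_mul]
    have : π (S.x hS S.n ^ S.shiftExp u v) = 1 :=
      (QuotientGroup.eq_one_iff _).2 (pow_mem (Subgroup.mem_zpowers _) _)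
    rw [this, one_mul]
  simp only [relRow, addOK, commOK, List.all_eq_true, List.mem_range, Bool.and_eq_true, Bool.or_eq_true] at hrel
  have hadd : ∀ r, r < D.nroots → ∀ t u, f r (t + u) = f r t * f r u := by
    intro r hr t u
    simp only [f]
    rw [hmod ((hrel r hr).1 t (hks t) u (hks u)), Schur.Pc.ev_append, map_mul]
  have hneg : ∀ r, r < D.nroots → ∀ t, f r (-t) = (f r t)⁻¹ := by
    intro r hr t
    have h0 := hadd r hr 0 0
    rw [add_zero] at h0
    have h00 : f r 0 = 1 := mul_eq_left.1 h0.symm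
    refine eq_inv_of_mul_eq_one_left ?_
    rw [← hadd r hr, neg_add_cancel, h00]
  have R : StRels D f := by
    refine ⟨hadd, fun r s t u hr hs h1 h2 => ?_⟩
    have h3 := (hrel r hr).2 s hs
    rcases h3 with (h3 | h3) | h3
    · exact absurd (Nat.eq_of_beq_eq_true h3) h1
    · exact absurd (Nat.eq_of_beq_eq_true h3) h2
    rw [← hneg s hs, ← hneg r hr]
    simp only [f, ← map_mul, ← Schur.Pc.ev_append]
    rw [hmod (h3 t (hks t) u (hks u))]
    induction D.commWord K r s t u with
    | nil => rw [List.flatMap_nil, Schur.Pc.ev_nil, map_one]; rfl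
    | cons p l ih =>
      rw [List.flatMap_cons, Schur.Pc.ev_append, map_mul, ih, List.map_cons, List.prod_cons]
  obtain ⟨φ, hφ⟩ := exists_hom_cover D R fun r hr t => by
    simp only [f, hout r hr, Schur.Pc.ev_nil, map_one]
  have hD7 : D ∈ [chevG2, chevB2, chevD4, chevF4, chevE6, chevE7, chevE8] := by
    simp only [List.mem_cons, List.not_mem_nil, or_false] at hD ⊢
    tauto
  obtain ⟨θ, hθs, hθc, -⟩ := exists_central K D hD7
  obtain ⟨W, hW⟩ := exists_wit hD7
  obtain ⟨e, -⟩ := exists_cover_equiv (K := K) D hW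
  have hθi : θ.ker = ⊥ := by
    rw [eq_bot_iff]
    refine hθc.trans fun c hc => ?_
    have hce : e c ∈ Subgroup.center (D.SteinbergGroup K) := by
      rw [Subgroup.mem_center_iff] at hc ⊢
      intro b
      obtain ⟨b', rfl⟩ := e.surjective b
      rw [← map_mul, ← map_mul, hc b']
    rw [Cfsg.Agent.S1078.result D hD, Subgroup.mem_bot] at hce
    rw [Subgroup.mem_bot]
    exact e.injective (hce.trans (map_one e).symm)
  let eθ := MulEquiv.ofBijective θ ⟨(MonoidHom.ker_eq_bot_iff θ).1 hθi, hθs⟩
  let ψ : ↥(D.group K) →* S.grp ⧸ Z := φ.comp eθ.symm.toMonoidHom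
  have hψs : Function.Surjective ψ := by
    rw [← MonoidHom.range_eq_top, eq_top_iff]
    intro q _
    obtain ⟨y, rfl⟩ := QuotientGroup.mk'_surjective Z q
    have hy : y ∈ Subgroup.closure {g : S.grp | ∃ a, a ≤ S.n ∧ S.x hS a = g} := by
      rw [closure_x hS]; trivial
    induction hy using Subgroup.closure_induction with
    | mem y hy =>
      obtain ⟨b, hb, rfl⟩ := hy
      rcases Nat.lt_or_ge b S.n with hb' | hb'
      · obtain ⟨r, t, hrt⟩ := hgen b hb'
        refine ⟨eθ (D.scGen K r t), ?_⟩
        show φ (eθ.symm (eθ (D.scGen K r t))) = _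
        rw [eθ.symm_apply_apply, hφ]
        simp [f, π, hrt, Schur.Pc.ev]
      · rw [show b = S.n by omega]
        exact ⟨1, by
          rw [map_one]
          exact ((QuotientGroup.eq_one_iff _).2 (Subgroup.mem_zpowers _)).symm⟩
    | one => exact one_mem _
    | mul c d _ _ hc hd => rw [map_mul]; exact mul_mem (hc trivial) (hd trivial)
    | inv c _ hc => rw [map_inv]; exact inv_mem (hc trivial)
  have hne : π (S.x hS a) ≠ 1 := by
    intro h
    obtain ⟨k, hk⟩ := Subgroup.mem_zpowers_iff.1 ((QuotientGroup.eq_one_iff _).1 h)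
    have hp := p_pos hS
    obtain ⟨m, hm⟩ := Submonoid.mem_powers_iff _ _ |>.1
      (mem_powers_iff_mem_zpowers.2 ((QuotientGroup.eq_one_iff _).1 h))
    have h0 : S.p * 0 < S.N := Nat.mul_lt_mul_of_pos_left hM (p_pos hS)
    have e1 := shift_pow hS 0 h0 m
    have e2 := el_apply hS (Nat.lt_trans ha (n_lt hS)) ⟨S.p * 0, h0⟩
    have e3 : S.el S.n ^ m = S.el a := by
      have := congrArg Subtype.val hm
      simpa [Sys.x] using this
    rw [e3, e2] at e1
    have h5 : S.p ≤ S.app (S.tab a) 0 := Nat.le_of_ble_eq_true hmove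
    have h6 : S.app (S.tab a) (S.p * 0) = S.p * 0 + m % S.p := e1
    have := Nat.mod_lt m hp
    simp only [Nat.mul_zero, Nat.zero_add] at h6
    omega
  have hψi : Function.Injective ψ := by
    rw [← MonoidHom.ker_eq_bot_iff]
    rcases hsimple.eq_bot_or_eq_top_of_normal ψ.ker inferInstance with h | h
    · exact h
    · exfalso
      obtain ⟨y, hy⟩ := hψs (π (S.x hS a))
      have : y ∈ ψ.ker := h ▸ Subgroup.mem_top y
      rw [MonoidHom.mem_ker, hy] at this
      exact hne this
  let e' := MulEquiv.ofBijective ψ ⟨hψi, hψs⟩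
  refine ⟨e'.symm.toMonoidHom.comp π, e'.symm.surjective.comp (QuotientGroup.mk'_surjective Z), ?_⟩
  ext y
  rw [MonoidHom.mem_ker, MonoidHom.comp_apply, MulEquiv.coe_toMonoidHom,
    EmbeddingLike.map_eq_one_iff]
  exact QuotientGroup.eq_one_iff y

end Sys

end CfsgLib.CoverTab
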