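import Cfsg.Agent.CoverTab.G2FourSys
import Mathlib.Tactic.IntervalCases

/-!
Certificates for the double cover of `G₂(4)`.
-/

set_option autoImplicit false
set_option Elab.async false
set_option maxRecDepth 100000

namespace CfsgLib.CoverTab.G2Four

/-- A modulus for keys. -/
def keyMod : ℕ := 281474976710597

theorem eqs2 : cert2.eqsCheck = true := by decide +kernel

theorem lin2 : cert2.linCheck = true := by decide +kernel

theorem rules2_0 : (List.range' (0 * 7) 7).all (fun k => sys.ruleAt2 cert2 xi2 k) = true := by decide +kernel

theorem rules2_1 : (List.range' (1 * 7) 7).all (fun k => sys.ruleAt2 cert2 xi2 k) = true := by decide +kernel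

theorem rules2_2 : (List.range' (2 * 7) 7).all (fun k => sys.ruleAt2 cert2 xi2 k) = true := by decide +kernel

theorem rules2_3 : (List.range' (3 * 7) 7).all (fun k => sys.ruleAt2 cert2 xi2 k) = true := by decide +kernel

theorem rules2_4 : (List.range' (4 * 7) 7).all (fun k => sys.ruleAt2 cert2 xi2 k) = true := by decide +kernel

theorem rules2_5 : (List.range' (5 * 7) 7).all (fun k => sys.ruleAt2 cert2 xi2 k) = true := by decide +kernel

theorem rules2_6 : (List.range' (6 * 7) 7).all (fun k => sys.ruleAt2 cert2 xi2 k) = true := by decide +kernel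

theorem rules2_7 : (List.range' (7 * 7) 7).all (fun k => sys.ruleAt2 cert2 xi2 k) = true := by decide +kernel

theorem rules2_8 : (List.range' (8 * 7) 7).all (fun k => sys.ruleAt2 cert2 xi2 k) = true := by decide +kernel

theorem rules2_9 : (List.range' (9 * 7) 7).all (fun k => sys.ruleAt2 cert2 xi2 k) = true := by decide +kernel

theorem rules2_10 : (List.range' (10 * 7) 7).all (fun k => sys.ruleAt2 cert2 xi2 k) = true := by decide +kernel

theorem rules2_11 : (List.range' (11 * 7) 7).all (fun k => sys.ruleAt2 cert2 xi2 k) = true := by decide +kernel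

theorem rules2_12 : (List.range' (12 * 7) 7).all (fun k => sys.ruleAt2 cert2 xi2 k) = true := by decide +kernel

theorem fus2_0 : sys.fusAt2 cert2 xi2 cert2Gs 0 = true := by decide +kernel

theorem fus2_1 : sys.fusAt2 cert2 xi2 cert2Gs 1 = true := by decide +kernel

theorem fus2_2 : sys.fusAt2 cert2 xi2 cert2Gs 2 = true := by decide +kernel

theorem chain2_ok : sys.chainOK xi2 13 [] chain2 = true := by decide +kernel

theorem size2 : (chain2.map fun e => e.2.length).prod = 2 ^ 13 := by decide +kernel

theorem rules2 : ∀ k < cert2.rules.length, sys.ruleAt2 cert2 xi2 k = true := by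
  refine of_blocks (m := 13) (c := 7) (by decide +kernel) ?_
  intro j hj
  interval_cases j
  exacts [rules2_0, rules2_1, rules2_2, rules2_3, rules2_4, rules2_5, rules2_6, rules2_7, rules2_8, rules2_9, rules2_10, rules2_11, rules2_12]

theorem fus2 : ∀ k < cert2.fus.length, sys.fusAt2 cert2 xi2 cert2Gs k = true := by
  show ∀ k < 3, _
  intro k hk
  interval_cases k
  exacts [fus2_0, fus2_1, fus2_2]

theorem check3 : cert3.check = true := by decide +kernel

theorem rules3_0 : (List.range' (0 * 7) 7).all (fun k => sys.ruleAt cert3 xi3 k) = true := by decide +kernel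

theorem fus3_0 : sys.fusAt cert3 xi3 cert3Gs 0 = true := by decide +kernel

theorem keys3 : sys.keysOK cert3 xi3 keyMod base3 = true := by decide +kernel

theorem cert3_ok : sys.certOK cert3 xi3 cert3Gs keyMod base3 = true := by
  refine Sys.certOK_of check3 (of_blocks (m := 1) (c := 7) (by decide +kernel) ?_) (by decide +kernel) ?_ keys3
  · intro j hj
    interval_cases j
    exacts [rules3_0]
  · show ∀ k < 1, _
    intro k hk
    interval_cases k
    exacts [fus3_0]

theorem check5 : cert5.check = true := by decide +kernel

theorem rules5_0 : (List.range' (0 * 7) 7).all (fun k => sys.ruleAt cert5 xi5 k) = true := by decide +kernel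

theorem fus5_0 : sys.fusAt cert5 xi5 cert5Gs 0 = true := by decide +kernel

theorem fus5_1 : sys.fusAt cert5 xi5 cert5Gs 1 = true := by decide +kernel

theorem keys5 : sys.keysOK cert5 xi5 keyMod base5 = true := by decide +kernel

theorem cert5_ok : sys.certOK cert5 xi5 cert5Gs keyMod base5 = true := by
  refine Sys.certOK_of check5 (of_blocks (m := 1) (c := 7) (by decide +kernel) ?_) (by decide +kernel) ?_ keys5
  · intro j hj
    interval_cases j
    exacts [rules5_0]
  · show ∀ k < 2, _
    intro k hk
    interval_cases k
    exacts [fus5_0, fus5_1]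

theorem cyc7_ok : sys.cycOK 7 cyc7 = true := by decide +kernel

theorem cyc13_ok : sys.cycOK 13 cyc13 = true := by decide +kernel

theorem comm_ok : sys.same [commPair.1, commPair.2]
    (36 :: [commPair.2, commPair.1]) = true := by decide +kernel

theorem move_ok : ∃ a < sys.n, Nat.ble sys.p (sys.app (sys.tab a) 0) = true :=
  ⟨3, by decide, by decide +kernel⟩

end CfsgLib.CoverTab.G2Four
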