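import Cfsg.Agent.CoverTab.G2FourSys
import Mathlib.Tactic.IntervalCases

/-!
Steinberg relations in the double cover of `G₂(4)` (part 0).
-/

set_option autoImplicit false
set_option Elab.async false
set_option maxRecDepth 100000

namespace CfsgLib.CoverTab.G2Four

theorem add0 : sys.addOK elts gw 0 = true := by decide +kernel

theorem comm0_0 : sys.commOK Cfsg.Lie.chevG2 elts gw 0 0 = true := by decide +kernel

theorem comm0_1 : sys.commOK Cfsg.Lie.chevG2 elts gw 0 1 = true := by decide +kernel

theorem comm0_2 : sys.commOK Cfsg.Lie.chevG2 elts gw 0 2 = true := by decide +kernel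

theorem comm0_3 : sys.commOK Cfsg.Lie.chevG2 elts gw 0 3 = true := by decide +kernel

theorem comm0_4 : sys.commOK Cfsg.Lie.chevG2 elts gw 0 4 = true := by decide +kernel

theorem comm0_5 : sys.commOK Cfsg.Lie.chevG2 elts gw 0 5 = true := by decide +kernel

theorem comm0_6 : sys.commOK Cfsg.Lie.chevG2 elts gw 0 6 = true := by decide +kernel

theorem comm0_7 : sys.commOK Cfsg.Lie.chevG2 elts gw 0 7 = true := by decide +kernel

theorem comm0_8 : sys.commOK Cfsg.Lie.chevG2 elts gw 0 8 = true := by decide +kernel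

theorem comm0_9 : sys.commOK Cfsg.Lie.chevG2 elts gw 0 9 = true := by decide +kernel

theorem comm0_10 : sys.commOK Cfsg.Lie.chevG2 elts gw 0 10 = true := by decide +kernel

theorem comm0_11 : sys.commOK Cfsg.Lie.chevG2 elts gw 0 11 = true := by decide +kernel

theorem rel0 : sys.relRow Cfsg.Lie.chevG2 elts gw 0 = true := by
  refine sys.relRow_of add0 ?_
  show ∀ s < 12, _
  intro j hj
  interval_cases j
  exacts [comm0_0, comm0_1, comm0_2, comm0_3, comm0_4, comm0_5, comm0_6, comm0_7, comm0_8, comm0_9, comm0_10, comm0_11]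

theorem add1 : sys.addOK elts gw 1 = true := by decide +kernel

theorem comm1_0 : sys.commOK Cfsg.Lie.chevG2 elts gw 1 0 = true := by decide +kernel

theorem comm1_1 : sys.commOK Cfsg.Lie.chevG2 elts gw 1 1 = true := by decide +kernel

theorem comm1_2 : sys.commOK Cfsg.Lie.chevG2 elts gw 1 2 = true := by decide +kernel

theorem comm1_3 : sys.commOK Cfsg.Lie.chevG2 elts gw 1 3 = true := by decide +kernel

theorem comm1_4 : sys.commOK Cfsg.Lie.chevG2 elts gw 1 4 = true := by decide +kernel

theorem comm1_5 : sys.commOK Cfsg.Lie.chevG2 elts gw 1 5 = true := by decide +kernel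

theorem comm1_6 : sys.commOK Cfsg.Lie.chevG2 elts gw 1 6 = true := by decide +kernel

theorem comm1_7 : sys.commOK Cfsg.Lie.chevG2 elts gw 1 7 = true := by decide +kernel

theorem comm1_8 : sys.commOK Cfsg.Lie.chevG2 elts gw 1 8 = true := by decide +kernel

theorem comm1_9 : sys.commOK Cfsg.Lie.chevG2 elts gw 1 9 = true := by decide +kernel

theorem comm1_10 : sys.commOK Cfsg.Lie.chevG2 elts gw 1 10 = true := by decide +kernel

theorem comm1_11 : sys.commOK Cfsg.Lie.chevG2 elts gw 1 11 = true := by decide +kernel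

theorem rel1 : sys.relRow Cfsg.Lie.chevG2 elts gw 1 = true := by
  refine sys.relRow_of add1 ?_
  show ∀ s < 12, _
  intro j hj
  interval_cases j
  exacts [comm1_0, comm1_1, comm1_2, comm1_3, comm1_4, comm1_5, comm1_6, comm1_7, comm1_8, comm1_9, comm1_10, comm1_11]

theorem add2 : sys.addOK elts gw 2 = true := by decide +kernel

theorem comm2_0 : sys.commOK Cfsg.Lie.chevG2 elts gw 2 0 = true := by decide +kernel

theorem comm2_1 : sys.commOK Cfsg.Lie.chevG2 elts gw 2 1 = true := by decide +kernel

theorem comm2_2 : sys.commOK Cfsg.Lie.chevG2 elts gw 2 2 = true := by decide +kernel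

theorem comm2_3 : sys.commOK Cfsg.Lie.chevG2 elts gw 2 3 = true := by decide +kernel

theorem comm2_4 : sys.commOK Cfsg.Lie.chevG2 elts gw 2 4 = true := by decide +kernel

theorem comm2_5 : sys.commOK Cfsg.Lie.chevG2 elts gw 2 5 = true := by decide +kernel

theorem comm2_6 : sys.commOK Cfsg.Lie.chevG2 elts gw 2 6 = true := by decide +kernel

theorem comm2_7 : sys.commOK Cfsg.Lie.chevG2 elts gw 2 7 = true := by decide +kernel

theorem comm2_8 : sys.commOK Cfsg.Lie.chevG2 elts gw 2 8 = true := by decide +kernel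

theorem comm2_9 : sys.commOK Cfsg.Lie.chevG2 elts gw 2 9 = true := by decide +kernel

theorem comm2_10 : sys.commOK Cfsg.Lie.chevG2 elts gw 2 10 = true := by decide +kernel

theorem comm2_11 : sys.commOK Cfsg.Lie.chevG2 elts gw 2 11 = true := by decide +kernel

theorem rel2 : sys.relRow Cfsg.Lie.chevG2 elts gw 2 = true := by
  refine sys.relRow_of add2 ?_
  show ∀ s < 12, _
  intro j hj
  interval_cases j
  exacts [comm2_0, comm2_1, comm2_2, comm2_3, comm2_4, comm2_5, comm2_6, comm2_7, comm2_8, comm2_9, comm2_10, comm2_11]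


end CfsgLib.CoverTab.G2Four
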