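import Cfsg.Agent.CoverTab.G2FourSys
import Mathlib.Tactic.IntervalCases

/-!
Steinberg relations in the double cover of `G₂(4)` (part 1).
-/

set_option autoImplicit false
set_option Elab.async false
set_option maxRecDepth 100000

namespace CfsgLib.CoverTab.G2Four

theorem add3 : sys.addOK elts gw 3 = true := by decide +kernel

theorem comm3_0 : sys.commOK Cfsg.Lie.chevG2 elts gw 3 0 = true := by decide +kernel

theorem comm3_1 : sys.commOK Cfsg.Lie.chevG2 elts gw 3 1 = true := by decide +kernel

theorem comm3_2 : sys.commOK Cfsg.Lie.chevG2 elts gw 3 2 = true := by decide +kernel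

theorem comm3_3 : sys.commOK Cfsg.Lie.chevG2 elts gw 3 3 = true := by decide +kernel

theorem comm3_4 : sys.commOK Cfsg.Lie.chevG2 elts gw 3 4 = true := by decide +kernel

theorem comm3_5 : sys.commOK Cfsg.Lie.chevG2 elts gw 3 5 = true := by decide +kernel

theorem comm3_6 : sys.commOK Cfsg.Lie.chevG2 elts gw 3 6 = true := by decide +kernel

theorem comm3_7 : sys.commOK Cfsg.Lie.chevG2 elts gw 3 7 = true := by decide +kernel

theorem comm3_8 : sys.commOK Cfsg.Lie.chevG2 elts gw 3 8 = true := by decide +kernel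

theorem comm3_9 : sys.commOK Cfsg.Lie.chevG2 elts gw 3 9 = true := by decide +kernel

theorem comm3_10 : sys.commOK Cfsg.Lie.chevG2 elts gw 3 10 = true := by decide +kernel

theorem comm3_11 : sys.commOK Cfsg.Lie.chevG2 elts gw 3 11 = true := by decide +kernel

theorem rel3 : sys.relRow Cfsg.Lie.chevG2 elts gw 3 = true := by
  refine sys.relRow_of add3 ?_
  show ∀ s < 12, _
  intro j hj
  interval_cases j
  exacts [comm3_0, comm3_1, comm3_2, comm3_3, comm3_4, comm3_5, comm3_6, comm3_7, comm3_8, comm3_9, comm3_10, comm3_11]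

theorem add4 : sys.addOK elts gw 4 = true := by decide +kernel

theorem comm4_0 : sys.commOK Cfsg.Lie.chevG2 elts gw 4 0 = true := by decide +kernel

theorem comm4_1 : sys.commOK Cfsg.Lie.chevG2 elts gw 4 1 = true := by decide +kernel

theorem comm4_2 : sys.commOK Cfsg.Lie.chevG2 elts gw 4 2 = true := by decide +kernel

theorem comm4_3 : sys.commOK Cfsg.Lie.chevG2 elts gw 4 3 = true := by decide +kernel

theorem comm4_4 : sys.commOK Cfsg.Lie.chevG2 elts gw 4 4 = true := by decide +kernel

theorem comm4_5 : sys.commOK Cfsg.Lie.chevG2 elts gw 4 5 = true := by decide +kernel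

theorem comm4_6 : sys.commOK Cfsg.Lie.chevG2 elts gw 4 6 = true := by decide +kernel

theorem comm4_7 : sys.commOK Cfsg.Lie.chevG2 elts gw 4 7 = true := by decide +kernel

theorem comm4_8 : sys.commOK Cfsg.Lie.chevG2 elts gw 4 8 = true := by decide +kernel

theorem comm4_9 : sys.commOK Cfsg.Lie.chevG2 elts gw 4 9 = true := by decide +kernel

theorem comm4_10 : sys.commOK Cfsg.Lie.chevG2 elts gw 4 10 = true := by decide +kernel

theorem comm4_11 : sys.commOK Cfsg.Lie.chevG2 elts gw 4 11 = true := by decide +kernel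

theorem rel4 : sys.relRow Cfsg.Lie.chevG2 elts gw 4 = true := by
  refine sys.relRow_of add4 ?_
  show ∀ s < 12, _
  intro j hj
  interval_cases j
  exacts [comm4_0, comm4_1, comm4_2, comm4_3, comm4_4, comm4_5, comm4_6, comm4_7, comm4_8, comm4_9, comm4_10, comm4_11]

theorem add5 : sys.addOK elts gw 5 = true := by decide +kernel

theorem comm5_0 : sys.commOK Cfsg.Lie.chevG2 elts gw 5 0 = true := by decide +kernel

theorem comm5_1 : sys.commOK Cfsg.Lie.chevG2 elts gw 5 1 = true := by decide +kernel

theorem comm5_2 : sys.commOK Cfsg.Lie.chevG2 elts gw 5 2 = true := by decide +kernel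

theorem comm5_3 : sys.commOK Cfsg.Lie.chevG2 elts gw 5 3 = true := by decide +kernel

theorem comm5_4 : sys.commOK Cfsg.Lie.chevG2 elts gw 5 4 = true := by decide +kernel

theorem comm5_5 : sys.commOK Cfsg.Lie.chevG2 elts gw 5 5 = true := by decide +kernel

theorem comm5_6 : sys.commOK Cfsg.Lie.chevG2 elts gw 5 6 = true := by decide +kernel

theorem comm5_7 : sys.commOK Cfsg.Lie.chevG2 elts gw 5 7 = true := by decide +kernel

theorem comm5_8 : sys.commOK Cfsg.Lie.chevG2 elts gw 5 8 = true := by decide +kernel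

theorem comm5_9 : sys.commOK Cfsg.Lie.chevG2 elts gw 5 9 = true := by decide +kernel

theorem comm5_10 : sys.commOK Cfsg.Lie.chevG2 elts gw 5 10 = true := by decide +kernel

theorem comm5_11 : sys.commOK Cfsg.Lie.chevG2 elts gw 5 11 = true := by decide +kernel

theorem rel5 : sys.relRow Cfsg.Lie.chevG2 elts gw 5 = true := by
  refine sys.relRow_of add5 ?_
  show ∀ s < 12, _
  intro j hj
  interval_cases j
  exacts [comm5_0, comm5_1, comm5_2, comm5_3, comm5_4, comm5_5, comm5_6, comm5_7, comm5_8, comm5_9, comm5_10, comm5_11]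


end CfsgLib.CoverTab.G2Four
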