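import Cfsg.Agent.CoverTab.G2FourSys
import Mathlib.Tactic.IntervalCases

/-!
Steinberg relations in the double cover of `G₂(4)` (part 2).
-/

set_option autoImplicit false
set_option Elab.async false
set_option maxRecDepth 100000

namespace CfsgLib.CoverTab.G2Four

theorem add6 : sys.addOK elts gw 6 = true := by decide +kernel

theorem comm6_0 : sys.commOK Cfsg.Lie.chevG2 elts gw 6 0 = true := by decide +kernel

theorem comm6_1 : sys.commOK Cfsg.Lie.chevG2 elts gw 6 1 = true := by decide +kernel

theorem comm6_2 : sys.commOK Cfsg.Lie.chevG2 elts gw 6 2 = true := by decide +kernel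

theorem comm6_3 : sys.commOK Cfsg.Lie.chevG2 elts gw 6 3 = true := by decide +kernel

theorem comm6_4 : sys.commOK Cfsg.Lie.chevG2 elts gw 6 4 = true := by decide +kernel

theorem comm6_5 : sys.commOK Cfsg.Lie.chevG2 elts gw 6 5 = true := by decide +kernel

theorem comm6_6 : sys.commOK Cfsg.Lie.chevG2 elts gw 6 6 = true := by decide +kernel

theorem comm6_7 : sys.commOK Cfsg.Lie.chevG2 elts gw 6 7 = true := by decide +kernel

theorem comm6_8 : sys.commOK Cfsg.Lie.chevG2 elts gw 6 8 = true := by decide +kernel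

theorem comm6_9 : sys.commOK Cfsg.Lie.chevG2 elts gw 6 9 = true := by decide +kernel

theorem comm6_10 : sys.commOK Cfsg.Lie.chevG2 elts gw 6 10 = true := by decide +kernel

theorem comm6_11 : sys.commOK Cfsg.Lie.chevG2 elts gw 6 11 = true := by decide +kernel

theorem rel6 : sys.relRow Cfsg.Lie.chevG2 elts gw 6 = true := by
  refine sys.relRow_of add6 ?_
  show ∀ s < 12, _
  intro j hj
  interval_cases j
  exacts [comm6_0, comm6_1, comm6_2, comm6_3, comm6_4, comm6_5, comm6_6, comm6_7, comm6_8, comm6_9, comm6_10, comm6_11]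

theorem add7 : sys.addOK elts gw 7 = true := by decide +kernel

theorem comm7_0 : sys.commOK Cfsg.Lie.chevG2 elts gw 7 0 = true := by decide +kernel

theorem comm7_1 : sys.commOK Cfsg.Lie.chevG2 elts gw 7 1 = true := by decide +kernel

theorem comm7_2 : sys.commOK Cfsg.Lie.chevG2 elts gw 7 2 = true := by decide +kernel

theorem comm7_3 : sys.commOK Cfsg.Lie.chevG2 elts gw 7 3 = true := by decide +kernel

theorem comm7_4 : sys.commOK Cfsg.Lie.chevG2 elts gw 7 4 = true := by decide +kernel

theorem comm7_5 : sys.commOK Cfsg.Lie.chevG2 elts gw 7 5 = true := by decide +kernel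

theorem comm7_6 : sys.commOK Cfsg.Lie.chevG2 elts gw 7 6 = true := by decide +kernel

theorem comm7_7 : sys.commOK Cfsg.Lie.chevG2 elts gw 7 7 = true := by decide +kernel

theorem comm7_8 : sys.commOK Cfsg.Lie.chevG2 elts gw 7 8 = true := by decide +kernel

theorem comm7_9 : sys.commOK Cfsg.Lie.chevG2 elts gw 7 9 = true := by decide +kernel

theorem comm7_10 : sys.commOK Cfsg.Lie.chevG2 elts gw 7 10 = true := by decide +kernel

theorem comm7_11 : sys.commOK Cfsg.Lie.chevG2 elts gw 7 11 = true := by decide +kernel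

theorem rel7 : sys.relRow Cfsg.Lie.chevG2 elts gw 7 = true := by
  refine sys.relRow_of add7 ?_
  show ∀ s < 12, _
  intro j hj
  interval_cases j
  exacts [comm7_0, comm7_1, comm7_2, comm7_3, comm7_4, comm7_5, comm7_6, comm7_7, comm7_8, comm7_9, comm7_10, comm7_11]

theorem add8 : sys.addOK elts gw 8 = true := by decide +kernel

theorem comm8_0 : sys.commOK Cfsg.Lie.chevG2 elts gw 8 0 = true := by decide +kernel

theorem comm8_1 : sys.commOK Cfsg.Lie.chevG2 elts gw 8 1 = true := by decide +kernel

theorem comm8_2 : sys.commOK Cfsg.Lie.chevG2 elts gw 8 2 = true := by decide +kernel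

theorem comm8_3 : sys.commOK Cfsg.Lie.chevG2 elts gw 8 3 = true := by decide +kernel

theorem comm8_4 : sys.commOK Cfsg.Lie.chevG2 elts gw 8 4 = true := by decide +kernel

theorem comm8_5 : sys.commOK Cfsg.Lie.chevG2 elts gw 8 5 = true := by decide +kernel

theorem comm8_6 : sys.commOK Cfsg.Lie.chevG2 elts gw 8 6 = true := by decide +kernel

theorem comm8_7 : sys.commOK Cfsg.Lie.chevG2 elts gw 8 7 = true := by decide +kernel

theorem comm8_8 : sys.commOK Cfsg.Lie.chevG2 elts gw 8 8 = true := by decide +kernel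

theorem comm8_9 : sys.commOK Cfsg.Lie.chevG2 elts gw 8 9 = true := by decide +kernel

theorem comm8_10 : sys.commOK Cfsg.Lie.chevG2 elts gw 8 10 = true := by decide +kernel

theorem comm8_11 : sys.commOK Cfsg.Lie.chevG2 elts gw 8 11 = true := by decide +kernel

theorem rel8 : sys.relRow Cfsg.Lie.chevG2 elts gw 8 = true := by
  refine sys.relRow_of add8 ?_
  show ∀ s < 12, _
  intro j hj
  interval_cases j
  exacts [comm8_0, comm8_1, comm8_2, comm8_3, comm8_4, comm8_5, comm8_6, comm8_7, comm8_8, comm8_9, comm8_10, comm8_11]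


end CfsgLib.CoverTab.G2Four
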