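import Cfsg.Agent.CoverTab.G2FourSys
import Mathlib.Tactic.IntervalCases

/-!
Steinberg relations in the double cover of `G₂(4)` (part 3).
-/

set_option autoImplicit false
set_option Elab.async false
set_option maxRecDepth 100000

namespace CfsgLib.CoverTab.G2Four

theorem add9 : sys.addOK elts gw 9 = true := by decide +kernel

theorem comm9_0 : sys.commOK Cfsg.Lie.chevG2 elts gw 9 0 = true := by decide +kernel

theorem comm9_1 : sys.commOK Cfsg.Lie.chevG2 elts gw 9 1 = true := by decide +kernel

theorem comm9_2 : sys.commOK Cfsg.Lie.chevG2 elts gw 9 2 = true := by decide +kernel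

theorem comm9_3 : sys.commOK Cfsg.Lie.chevG2 elts gw 9 3 = true := by decide +kernel

theorem comm9_4 : sys.commOK Cfsg.Lie.chevG2 elts gw 9 4 = true := by decide +kernel

theorem comm9_5 : sys.commOK Cfsg.Lie.chevG2 elts gw 9 5 = true := by decide +kernel

theorem comm9_6 : sys.commOK Cfsg.Lie.chevG2 elts gw 9 6 = true := by decide +kernel

theorem comm9_7 : sys.commOK Cfsg.Lie.chevG2 elts gw 9 7 = true := by decide +kernel

theorem comm9_8 : sys.commOK Cfsg.Lie.chevG2 elts gw 9 8 = true := by decide +kernel

theorem comm9_9 : sys.commOK Cfsg.Lie.chevG2 elts gw 9 9 = true := by decide +kernel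

theorem comm9_10 : sys.commOK Cfsg.Lie.chevG2 elts gw 9 10 = true := by decide +kernel

theorem comm9_11 : sys.commOK Cfsg.Lie.chevG2 elts gw 9 11 = true := by decide +kernel

theorem rel9 : sys.relRow Cfsg.Lie.chevG2 elts gw 9 = true := by
  refine sys.relRow_of add9 ?_
  show ∀ s < 12, _
  intro j hj
  interval_cases j
  exacts [comm9_0, comm9_1, comm9_2, comm9_3, comm9_4, comm9_5, comm9_6, comm9_7, comm9_8, comm9_9, comm9_10, comm9_11]

theorem add10 : sys.addOK elts gw 10 = true := by decide +kernel

theorem comm10_0 : sys.commOK Cfsg.Lie.chevG2 elts gw 10 0 = true := by decide +kernel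

theorem comm10_1 : sys.commOK Cfsg.Lie.chevG2 elts gw 10 1 = true := by decide +kernel

theorem comm10_2 : sys.commOK Cfsg.Lie.chevG2 elts gw 10 2 = true := by decide +kernel

theorem comm10_3 : sys.commOK Cfsg.Lie.chevG2 elts gw 10 3 = true := by decide +kernel

theorem comm10_4 : sys.commOK Cfsg.Lie.chevG2 elts gw 10 4 = true := by decide +kernel

theorem comm10_5 : sys.commOK Cfsg.Lie.chevG2 elts gw 10 5 = true := by decide +kernel

theorem comm10_6 : sys.commOK Cfsg.Lie.chevG2 elts gw 10 6 = true := by decide +kernel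

theorem comm10_7 : sys.commOK Cfsg.Lie.chevG2 elts gw 10 7 = true := by decide +kernel

theorem comm10_8 : sys.commOK Cfsg.Lie.chevG2 elts gw 10 8 = true := by decide +kernel

theorem comm10_9 : sys.commOK Cfsg.Lie.chevG2 elts gw 10 9 = true := by decide +kernel

theorem comm10_10 : sys.commOK Cfsg.Lie.chevG2 elts gw 10 10 = true := by decide +kernel

theorem comm10_11 : sys.commOK Cfsg.Lie.chevG2 elts gw 10 11 = true := by decide +kernel

theorem rel10 : sys.relRow Cfsg.Lie.chevG2 elts gw 10 = true := by
  refine sys.relRow_of add10 ?_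
  show ∀ s < 12, _
  intro j hj
  interval_cases j
  exacts [comm10_0, comm10_1, comm10_2, comm10_3, comm10_4, comm10_5, comm10_6, comm10_7, comm10_8, comm10_9, comm10_10, comm10_11]

theorem add11 : sys.addOK elts gw 11 = true := by decide +kernel

theorem comm11_0 : sys.commOK Cfsg.Lie.chevG2 elts gw 11 0 = true := by decide +kernel

theorem comm11_1 : sys.commOK Cfsg.Lie.chevG2 elts gw 11 1 = true := by decide +kernel

theorem comm11_2 : sys.commOK Cfsg.Lie.chevG2 elts gw 11 2 = true := by decide +kernel

theorem comm11_3 : sys.commOK Cfsg.Lie.chevG2 elts gw 11 3 = true := by decide +kernel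

theorem comm11_4 : sys.commOK Cfsg.Lie.chevG2 elts gw 11 4 = true := by decide +kernel

theorem comm11_5 : sys.commOK Cfsg.Lie.chevG2 elts gw 11 5 = true := by decide +kernel

theorem comm11_6 : sys.commOK Cfsg.Lie.chevG2 elts gw 11 6 = true := by decide +kernel

theorem comm11_7 : sys.commOK Cfsg.Lie.chevG2 elts gw 11 7 = true := by decide +kernel

theorem comm11_8 : sys.commOK Cfsg.Lie.chevG2 elts gw 11 8 = true := by decide +kernel

theorem comm11_9 : sys.commOK Cfsg.Lie.chevG2 elts gw 11 9 = true := by decide +kernel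

theorem comm11_10 : sys.commOK Cfsg.Lie.chevG2 elts gw 11 10 = true := by decide +kernel

theorem comm11_11 : sys.commOK Cfsg.Lie.chevG2 elts gw 11 11 = true := by decide +kernel

theorem rel11 : sys.relRow Cfsg.Lie.chevG2 elts gw 11 = true := by
  refine sys.relRow_of add11 ?_
  show ∀ s < 12, _
  intro j hj
  interval_cases j
  exacts [comm11_0, comm11_1, comm11_2, comm11_3, comm11_4, comm11_5, comm11_6, comm11_7, comm11_8, comm11_9, comm11_10, comm11_11]


end CfsgLib.CoverTab.G2Four
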