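import Cfsg.Agent.CoverTab.G2FourOK
import Cfsg.Agent.CoverTab.G2FourRel0
import Cfsg.Agent.CoverTab.G2FourRel1
import Cfsg.Agent.CoverTab.G2FourRel2
import Cfsg.Agent.CoverTab.G2FourRel3
import Cfsg.Agent.CoverTab.G2FourCerts
import Cfsg.Agent.S1055
import Cfsg.Agent.S1059
import Cfsg.Agent.Schur.PcPerm
import Cfsg.Agent.GTwoFour.Main

/-!
# The Schur multiplier of `G₂(4)` is cyclic of order 2
-/

set_option autoImplicit false
set_option Elab.async false
set_option linter.style.haveILetI false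

namespace CfsgLib.CoverTab.G2Four

open Cfsg.Lie CfsgLib.Schur.Pc CfsgLib.CriticalFive
open scoped commutatorElement

theorem natCard_G : Nat.card ↥(chevG2.group F4) = 251596800 := by
  rw [Cfsg.Agent.S1059.result F4.card_eq]; norm_num

theorem gw_gen : ∀ a < sys.n, ∃ r t, gw r t = [a] := by
  intro a ha
  have h : ∀ a < 36, gw (a / 3) (if a % 3 = 0 then ⟨true, false⟩
      else if a % 3 = 1 then ⟨false, true⟩ else ⟨true, true⟩) = [a] := by decide +kernel
  exact ⟨_, _, h a ha⟩

theorem gw_out : ∀ r, ¬ r < chevG2.nroots → ∀ t, gw r t = [] := by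
  intro r hr t
  have h : Nat.blt r 12 = false := by
    rw [Bool.eq_false_iff]; intro h'; exact hr (Nat.le_of_ble_eq_true h')
  simp [gw, h]

theorem rel : ∀ r < chevG2.nroots, sys.relRow chevG2 elts gw r = true := by
  show ∀ r < 12, _
  intro r hr
  interval_cases r
  exacts [rel0, rel1, rel2, rel3, rel4, rel5, rel6, rel7, rel8, rel9, rel10, rel11]

/-- The multiplier of `G₂(4)`, over the field `F4`. -/
theorem mult : Cfsg.HasCyclicSchurMultiplier ↥(chevG2.group F4) 2 := by
  have hK : ∃ a : F4, a ≠ 0 ∧ a ≠ 1 := ⟨⟨false, true⟩, by decide, by decide⟩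
  obtain ⟨hsimple, hnc⟩ := Cfsg.Agent.S1055.result (F := F4) hK
  obtain ⟨a, ha, hmove⟩ := move_ok
  obtain ⟨τ, hτ, hker⟩ : ∃ τ : sys.grp →* ↥(chevG2.group F4), Function.Surjective τ ∧
      τ.ker = Subgroup.zpowers (sys.x ok sys.n) :=
    Sys.exists_tau ok (by simp) elts (by decide) (fun _ => hK) hsimple gw gw_out rel gw_gen
      (by decide) ha hmove
  have hz : sys.x ok sys.n ∈ commutator sys.grp := by
    have h := Sys.same_grp ok comm_ok
    rw [ev_cons, ev_cons, ev_nil, mul_one, ev_cons, ev_cons, ev_cons, ev_nil, mul_one] at h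
    have e : sys.x ok sys.n = ⁅sys.x ok commPair.1, sys.x ok commPair.2⁆ := by
      rw [commutatorElement_def, show sys.n = 36 from rfl, h]
      group
    rw [e, commutator_def]
    exact Subgroup.commutator_mem_commutator (Subgroup.mem_top _) (Subgroup.mem_top _)
  have hcard : Nat.card sys.grp = 2 * 251596800 := by
    rw [← Subgroup.card_mul_index τ.ker, Subgroup.index_ker, MonoidHom.range_eq_top.2 hτ,
      Subgroup.card_top, natCard_G, hker, Nat.card_zpowers, Sys.orderOf_shift ok (by decide)]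
    rfl
  haveI : Finite ↥(chevG2.group F4) := Finite.of_surjective τ hτ
  have hperf : Group.IsPerfect ↥(chevG2.group F4) := Group.isPerfect_def.mpr (by
    rcases hsimple.eq_bot_or_eq_top_of_normal (commutator _) inferInstance with h | h
    · exfalso
      refine hnc ⟨⟨fun a b => ?_⟩⟩
      have h1 : ⁅a, b⁆ ∈ commutator ↥(chevG2.group F4) :=
        Subgroup.commutator_mem_commutator (Subgroup.mem_top _) (Subgroup.mem_top _)
      rw [h, Subgroup.mem_bot] at h1
      exact (commutatorElement_eq_one_iff_commute.1 h1).eq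
    · exact h)
  refine Sys.hasCyclicSchurMultiplier_quot ok (by decide) hperf τ hτ hker hz ?_
  refine Schur.hasCyclicSchurMultiplier_one _ fun p hp hd Γ _ _ σ hσ hexp => ?_
  rw [hcard] at hd
  have hmem : p ∈ [2, 2, 2, 2, 2, 2, 2, 2, 2, 2, 2, 2, 2, 3, 3, 3, 5, 5, 7, 13] :=
    mem_of_prime_dvd_prod hp (by decide) hd
  simp only [List.mem_cons, List.not_mem_nil, or_false] at hmem
  obtain rfl | rfl | rfl | rfl | rfl : p = 2 ∨ p = 3 ∨ p = 5 ∨ p = 7 ∨ p = 13 := by tauto
  · exact Sys.ker_eq_bot_of_cert2 ok cert2 xi2 cert2Gs chain2 eqs2 lin2 rules2 fus2 chain2_ok size2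
      (N := 2 * 251596800 / 2 ^ 13) (hcard.trans (by decide +kernel)) (by decide +kernel) σ hσ hexp
  · exact Sys.ker_eq_bot_of_cert ok cert3 xi3 cert3Gs keyMod base3 cert3_ok hp
      (N := 2 * 251596800 / 3 ^ 3) (hcard.trans (by decide +kernel)) (by decide +kernel) σ hσ hexp
  · exact Sys.ker_eq_bot_of_cert ok cert5 xi5 cert5Gs keyMod base5 cert5_ok hp
      (N := 2 * 251596800 / 5 ^ 2) (hcard.trans (by decide +kernel)) (by decide +kernel) σ hσ hexp
  · exact Sys.ker_eq_bot_of_cyc ok hp cyc7 cyc7_ok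
      (N := 2 * 251596800 / 7) (hcard.trans (by decide +kernel)) (by decide +kernel) σ hσ hexp
  · exact Sys.ker_eq_bot_of_cyc ok hp cyc13 cyc13_ok
      (N := 2 * 251596800 / 13) (hcard.trans (by decide +kernel)) (by decide +kernel) σ hσ hexp

/-- The groups over fields with four elements. -/
theorem equiv_of_card {F : Type*} [Field F] [Fintype F] (hF : Fintype.card F = 4) :
    Nonempty (↥(chevG2.group F) ≃* ↥(chevG2.group F4)) :=
  ⟨GTwoFour.groupEquiv (FiniteField.ringEquivOfCardEq (by rw [hF, F4.card_eq]))⟩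

end CfsgLib.CoverTab.G2Four
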