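import Cfsg.Agent.CoverTab.G2FourSys
import Mathlib.Tactic.IntervalCases

/-!
The structural checks of the tables.
-/

set_option autoImplicit false
set_option Elab.async false
set_option maxRecDepth 100000

namespace CfsgLib.CoverTab.G2Four

theorem valid0 : (List.range' (0 * 7) 7).all (fun a => sys.validAt a) = true := by decide +kernel

theorem valid1 : (List.range' (1 * 7) 7).all (fun a => sys.validAt a) = true := by decide +kernel

theorem valid2 : (List.range' (2 * 7) 7).all (fun a => sys.validAt a) = true := by decide +kernel

theorem valid3 : (List.range' (3 * 7) 7).all (fun a => sys.validAt a) = true := by decide +kernel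

theorem valid4 : (List.range' (4 * 7) 7).all (fun a => sys.validAt a) = true := by decide +kernel

theorem valid5 : (List.range' (5 * 7) 7).all (fun a => sys.validAt a) = true := by decide +kernel

theorem central0 : (List.range' (0 * 7) 7).all (fun a => sys.centralAt a) = true := by decide +kernel

theorem central1 : (List.range' (1 * 7) 7).all (fun a => sys.centralAt a) = true := by decide +kernel

theorem central2 : (List.range' (2 * 7) 7).all (fun a => sys.centralAt a) = true := by decide +kernel

theorem central3 : (List.range' (3 * 7) 7).all (fun a => sys.centralAt a) = true := by decide +kernel

theorem central4 : (List.range' (4 * 7) 7).all (fun a => sys.centralAt a) = true := by decide +kernel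

theorem central5 : (List.range' (5 * 7) 7).all (fun a => sys.centralAt a) = true := by decide +kernel

theorem shift : sys.shiftOK = true := by decide +kernel

theorem defs : sys.defsOK = true := by decide +kernel

theorem ok : sys.OK = true := by
  refine Sys.OK_of (by decide +kernel) (of_blocks (m := 6) (c := 7) (by decide +kernel) ?_) shift
    (of_blocks (m := 6) (c := 7) (by decide +kernel) ?_) defs
  · intro j hj
    interval_cases j
    exacts [valid0, valid1, valid2, valid3, valid4, valid5]
  · intro j hj
    interval_cases j
    exacts [central0, central1, central2, central3, central4, central5]

end CfsgLib.CoverTab.G2Four
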