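import Cfsg.Agent.CoverTab.Chev
import Cfsg.Agent.CoverTab.G2FourData
import Cfsg.Agent.CoverTab.G2FourTables
import Cfsg.Agent.CoverTab.G2FourInvTables
import Cfsg.Agent.CriticalFive.Target

/-!
The tables of the double cover of `G₂(4)`.
-/

set_option autoImplicit false
set_option Elab.async false
set_option maxRecDepth 100000

namespace CfsgLib.CoverTab.G2Four

open CfsgLib.CriticalFive

/-- The double cover. -/
def sys : Sys := ⟨2, 4032, 13, 36, tables, invTables, defWords⟩

/-- The number of an element of the field. -/
def code (t : F4) : ℕ := (if t.re then 1 else 0) + (if t.im then 2 else 0)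

/-- The words of the root elements. -/
def gw (r : ℕ) (t : F4) : List ℕ :=
  bif Nat.blt r 12 && !Nat.beq (code t) 0 then [3 * r + code t - 1] else []

/-- The elements of the field. -/
def elts : List F4 := [⟨false, false⟩, ⟨true, false⟩, ⟨false, true⟩, ⟨true, true⟩]

end CfsgLib.CoverTab.G2Four
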