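import Cfsg.Agent.CoverTab.Chev
import Cfsg.Agent.CoverTab.G2ThreeData
import Cfsg.Agent.S1055
import Cfsg.Agent.S1059
import Cfsg.Agent.Schur.PcPerm
import Cfsg.Agent.GTwoFour.Main

/-!
# The Schur multiplier of `G₂(3)` is cyclic of order 3
-/

set_option autoImplicit false
set_option Elab.async false
set_option linter.style.haveILetI false

namespace CfsgLib.CoverTab.G2Three

open Cfsg.Lie CfsgLib.Schur.Pc
open scoped commutatorElement

/-- The triple cover. -/
def sys : Sys := ⟨3, 378, 11, 24, tables, invTables, defWords⟩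

/-- The field with three elements. -/
abbrev K : Type := ZMod 3

instance : Fact (Nat.Prime 3) := ⟨Nat.prime_three⟩

/-- The words of the root elements. -/
def gw (r : ℕ) (t : K) : List ℕ :=
  bif Nat.blt r 12 && !Nat.beq t.val 0 then [2 * r + t.val - 1] else []

/-- The elements of the field. -/
def elts : List K := [0, 1, 2]

theorem ok : sys.OK = true := by decide +kernel

theorem rel : ∀ r < 12, sys.relRow chevG2 elts gw r = true := by decide +kernel

theorem cert3_ok : sys.certOK cert3 xi3 cert3Gs mod3 base3 = true := by decide +kernel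

theorem cert2_ok : sys.certOK cert2 xi2 cert2Gs mod2 base2 = true := by decide +kernel

theorem cyc7_ok : sys.cycOK 7 cyc7 = true := by decide +kernel

theorem cyc13_ok : sys.cycOK 13 cyc13 = true := by decide +kernel

theorem comm_ok : sys.same [commPair.1, commPair.2.1]
    (24 :: [commPair.2.1, commPair.1]) = true := by decide +kernel

theorem move_ok : Nat.ble sys.p (sys.app (sys.tab 0) 0) = true ∨
    Nat.ble sys.p (sys.app (sys.tab 12) 0) = true := by decide +kernel

theorem natCard_G : Nat.card ↥(chevG2.group K) = 4245696 := by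
  rw [Cfsg.Agent.S1059.result (ZMod.card 3)]; norm_num

/-- The multiplier of `G₂(3)`, over the prime field. -/
theorem mult : Cfsg.HasCyclicSchurMultiplier ↥(chevG2.group K) 3 := by
  have hK : ∃ a : K, a ≠ 0 ∧ a ≠ 1 := ⟨2, by decide, by decide⟩
  obtain ⟨hsimple, hnc⟩ := Cfsg.Agent.S1055.result (F := K) hK
  have hgen : ∀ a < sys.n, ∃ r t, gw r t = [a] := by
    intro a ha
    have h : ∀ a < 24, gw (a / 2) (((a % 2 + 1 : ℕ) : K)) = [a] := by decide +kernel
    exact ⟨_, _, h a ha⟩
  have hout : ∀ r, ¬ r < chevG2.nroots → ∀ t, gw r t = [] := by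
    intro r hr t
    have h : Nat.blt r 12 = false := by
      rw [Bool.eq_false_iff]; intro h'; exact hr (Nat.le_of_ble_eq_true h')
    simp [gw, h]
  obtain ⟨τ, hτ, hker⟩ : ∃ τ : sys.grp →* ↥(chevG2.group K), Function.Surjective τ ∧
      τ.ker = Subgroup.zpowers (sys.x ok sys.n) := by
    rcases move_ok with h | h
    · exact Sys.exists_tau ok (by simp) elts (by decide) (fun _ => hK) hsimple gw hout rel hgen
        (by decide) (a := 0) (by decide) h
    · exact Sys.exists_tau ok (by simp) elts (by decide) (fun _ => hK) hsimple gw hout rel hgen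
        (by decide) (a := 12) (by decide) h
  have hz : sys.x ok sys.n ∈ commutator sys.grp := by
    have h := Sys.same_grp ok comm_ok
    rw [ev_cons, ev_cons, ev_nil, mul_one, ev_cons, ev_cons, ev_cons, ev_nil, mul_one] at h
    have e : sys.x ok sys.n = ⁅sys.x ok commPair.1, sys.x ok commPair.2.1⁆ := by
      rw [commutatorElement_def, show sys.n = 24 from rfl, h]
      group
    rw [e, commutator_def]
    exact Subgroup.commutator_mem_commutator (Subgroup.mem_top _) (Subgroup.mem_top _)
  have hcard : Nat.card sys.grp = 3 * 4245696 := by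
    rw [← Subgroup.card_mul_index τ.ker, Subgroup.index_ker, MonoidHom.range_eq_top.2 hτ,
      Subgroup.card_top, natCard_G, hker, Nat.card_zpowers, Sys.orderOf_shift ok (by decide)]
    rfl
  haveI : Finite ↥(chevG2.group K) := Finite.of_surjective τ hτ
  have hperf : Group.IsPerfect ↥(chevG2.group K) := Group.isPerfect_def.mpr (by
    rcases hsimple.eq_bot_or_eq_top_of_normal (commutator _) inferInstance with h | h
    · exfalso
      refine hnc ⟨⟨fun a b => ?_⟩⟩
      have h1 : ⁅a, b⁆ ∈ commutator ↥(chevG2.group K) :=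
        Subgroup.commutator_mem_commutator (Subgroup.mem_top _) (Subgroup.mem_top _)
      rw [h, Subgroup.mem_bot] at h1
      exact (commutatorElement_eq_one_iff_commute.1 h1).eq
    · exact h)
  refine Sys.hasCyclicSchurMultiplier_quot ok (by decide) hperf τ hτ hker hz ?_
  refine Schur.hasCyclicSchurMultiplier_one _ fun p hp hd Γ _ _ σ hσ hexp => ?_
  rw [hcard] at hd
  have hmem : p ∈ [2, 2, 2, 2, 2, 2, 3, 3, 3, 3, 3, 3, 3, 7, 13] :=
    mem_of_prime_dvd_prod hp (by decide) hd
  simp only [List.mem_cons, List.not_mem_nil, or_false] at hmem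
  obtain rfl | rfl | rfl | rfl : p = 2 ∨ p = 3 ∨ p = 7 ∨ p = 13 := by tauto
  · exact Sys.ker_eq_bot_of_cert ok cert2 xi2 cert2Gs mod2 base2 cert2_ok hp
      (N := 3 * 4245696 / 2 ^ 6) (hcard.trans (by decide +kernel)) (by decide +kernel) σ hσ hexp
  · exact Sys.ker_eq_bot_of_cert ok cert3 xi3 cert3Gs mod3 base3 cert3_ok hp
      (N := 3 * 4245696 / 3 ^ 7) (hcard.trans (by decide +kernel)) (by decide +kernel) σ hσ hexp
  · exact Sys.ker_eq_bot_of_cyc ok hp cyc7 cyc7_ok
      (N := 3 * 4245696 / 7) (hcard.trans (by decide +kernel)) (by decide +kernel) σ hσ hexp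
  · exact Sys.ker_eq_bot_of_cyc ok hp cyc13 cyc13_ok
      (N := 3 * 4245696 / 13) (hcard.trans (by decide +kernel)) (by decide +kernel) σ hσ hexp

/-- The groups over fields with three elements. -/
theorem equiv_of_card {F : Type*} [Field F] [Fintype F] (hF : Fintype.card F = 3) :
    Nonempty (↥(chevG2.group F) ≃* ↥(chevG2.group K)) := by
  exact ⟨GTwoFour.groupEquiv (ZMod.ringEquivOfPrime F Nat.prime_three hF).symm⟩

end CfsgLib.CoverTab.G2Three
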