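import Cfsg.Agent.CoverTab.Basic
import Cfsg.Agent.SchurBound.Basic
import Cfsg.Agent.Schur.Basic
import Cfsg.Agent.Schur.TwoCert

/-!
# The multiplier of a quotient by the shift
-/

set_option autoImplicit false
set_option linter.style.haveILetI false

namespace CfsgLib.CoverTab

open CfsgLib.Schur.Pc (ev tailSubgroup normalWords)
open scoped commutatorElement

namespace Sys

variable (S : Sys)

/-- A key of a word from the images of some base points. -/
noncomputable def key (md : ℕ) (base u : List ℕ) : ℕ :=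
  base.foldl (fun acc b => acc * S.N + S.imgT (S.tabs u) b) 0 % md

/-- The rule with number `k` holds. -/
noncomputable def ruleAt (C : Schur.Pc.Cert) (xi : List ℕ) (k : ℕ) : Bool :=
  S.same ((C.rules.getD k ([], [])).1.map fun a => xi.getD a S.n)
    ((C.rules.getD k ([], [])).2.map fun a => xi.getD a S.n)

/-- The fusion with number `k` holds. -/
noncomputable def fusAt (C : Schur.Pc.Cert) (xi : List ℕ) (gs : List (List ℕ)) (k : ℕ) : Bool :=
  (List.range C.fusW).all fun s =>
    S.same (gs.getD k [] ++ ((C.fus.getD k ([], [])).1.getD s []).map fun a => xi.getD a S.n)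
      ((((C.fus.getD k ([], [])).2.getD s []).map fun a => xi.getD a S.n) ++ gs.getD k [])

/-- The normal words have distinct keys. -/
noncomputable def keysOK (C : Schur.Pc.Cert) (xi : List ℕ) (md : ℕ) (base : List ℕ) : Bool :=
  base.all (fun b => Nat.blt b S.N) &&
  (normalWords C.p C.n 0).all (fun w => S.lettersOK (w.map fun a => xi.getD a S.n)) &&
  nodupBits 48 ((normalWords C.p C.n 0).map fun w => S.key md base (w.map fun a => xi.getD a S.n))

/-- The checks for a certificate: generators of the Sylow subgroup as table numbers, conjugating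
elements as words, base points. -/
noncomputable def certOK (C : Schur.Pc.Cert) (xi : List ℕ) (gs : List (List ℕ)) (md : ℕ)
    (base : List ℕ) : Bool :=
  C.check && (List.range C.rules.length).all (fun k => S.ruleAt C xi k) &&
    Nat.beq gs.length C.fus.length &&
    (List.range C.fus.length).all (fun k => S.fusAt C xi gs k) && S.keysOK C xi md base

theorem certOK_of {S : Sys} {C : Schur.Pc.Cert} {xi : List ℕ} {gs : List (List ℕ)} {md : ℕ}
    {base : List ℕ} (h1 : C.check = true) (h2 : ∀ k < C.rules.length, S.ruleAt C xi k = true)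
    (h3 : Nat.beq gs.length C.fus.length = true)
    (h4 : ∀ k < C.fus.length, S.fusAt C xi gs k = true) (h5 : S.keysOK C xi md base = true) :
    S.certOK C xi gs md base = true := by
  simp only [certOK, Bool.and_eq_true, List.all_eq_true, List.mem_range]
  exact ⟨⟨⟨⟨h1, h2⟩, h3⟩, h4⟩, h5⟩

theorem ker_eq_bot_of_cert {S : Sys} (hS : S.OK = true) {Γ : Type*} [Group Γ] [Finite Γ]
    (C : Schur.Pc.Cert) (xi : List ℕ) (gs : List (List ℕ)) (md : ℕ) (base : List ℕ)
    (hok : S.certOK C xi gs md base = true) (hp : C.p.Prime) {N : ℕ}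
    (hN : Nat.card S.grp = C.p ^ C.n * N) (hNp : ¬ C.p ∣ N) (σ : Γ →* S.grp)
    (hσ : Cfsg.IsStemExtension σ) (hexp : ∀ z ∈ σ.ker, z ^ C.p = 1) : σ.ker = ⊥ := by
  simp only [certOK, keysOK, Bool.and_eq_true, List.all_eq_true, List.mem_range] at hok
  obtain ⟨⟨⟨⟨hcheck, hrules⟩, hlen⟩, hfus⟩, ⟨⟨hbase, hlet⟩, hnodup⟩⟩ := hok
  let x : ℕ → S.grp := fun a => S.x hS (xi.getD a S.n)
  have hev : ∀ u, ev x u = ev (S.x hS) (u.map fun a => xi.getD a S.n) := fun u => by
    simp only [ev, List.map_map]; rfl
  have hr : ∀ l ∈ C.rules, ev x l.1 = ev x l.2 := fun l hl => by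
    obtain ⟨k, hk, rfl⟩ := List.getElem_of_mem hl
    have h := hrules k hk
    simp only [ruleAt, List.getD_eq_getElem _ _ hk] at h
    rw [hev, hev]; exact same_grp hS h
  have hf : ∀ F ∈ C.fus, ∃ g : S.grp, ∀ s < C.fusW,
      g * ev x (F.1.getD s []) * g⁻¹ = ev x (F.2.getD s []) := by
    intro F hF
    obtain ⟨i, hi, rfl⟩ := List.getElem_of_mem hF
    have hi' : i < gs.length := Nat.eq_of_beq_eq_true hlen ▸ hi
    refine ⟨ev (S.x hS) gs[i], fun s hs => ?_⟩
    have h0 := hfus i hi
    simp only [fusAt, List.all_eq_true, List.mem_range, List.getD_eq_getElem _ _ hi,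
      List.getD_eq_getElem _ _ hi'] at h0
    have h := same_grp hS (h0 s hs)
    rw [Schur.Pc.ev_append, Schur.Pc.ev_append] at h
    rw [hev, hev, mul_inv_eq_iff_eq_mul]
    exact h
  have hcard : C.p ^ C.n ≤ Nat.card (tailSubgroup x C.n 0) := by
    let k : S.grp → ℕ := fun g => base.foldl
      (fun acc b => acc * S.N + if h : b < S.N then ((g.1 ⟨b, h⟩ : Fin S.N) : ℕ) else 0) 0 % md
    refine Schur.Pc.le_card_of_nodup k C.p C.n x ?_
    have hk : ∀ w ∈ normalWords C.p C.n 0,
        k (ev x w) = S.key md base (w.map fun a => xi.getD a S.n) := by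
      intro w hw
      have aux : ∀ (L : List ℕ), (∀ b ∈ L, Nat.blt b S.N = true) → ∀ acc,
          L.foldl (fun acc b => acc * S.N +
              if h : b < S.N then (((ev x w).1 ⟨b, h⟩ : Fin S.N) : ℕ) else 0) acc =
            L.foldl (fun acc b => acc * S.N +
              S.imgT (S.tabs (w.map fun a => xi.getD a S.n)) b) acc := by
        intro L
        induction L with
        | nil => intro _ acc; rfl
        | cons b L ih =>
          intro hL acc
          have hb : b < S.N := Nat.le_of_ble_eq_true (hL b List.mem_cons_self)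
          rw [List.foldl_cons, List.foldl_cons, ih (fun c hc => hL c (List.mem_cons_of_mem _ hc)),
            dif_pos hb, hev, coe_ev, ev_apply hS (hlet w hw)]
      simp only [k, key, aux base hbase]
    rw [List.map_congr_left hk]
    exact nodupBits_sound _ _ hnodup
  refine C.ker_eq_bot σ hσ hp hexp hcheck x hr hf hcard ?_
  have hshape : Schur.Pc.shaped C.p C.n C.rules = true := by
    simp only [Schur.Pc.Cert.check, Bool.and_eq_true] at hcheck
    exact hcheck.1.1
  have hT : Nat.card (tailSubgroup x C.n 0) = C.p ^ C.n :=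
    le_antisymm (Schur.Pc.card_tailSubgroup_le x hshape hr C.n 0 (Nat.zero_add _)) hcard
  have := Subgroup.index_mul_card (tailSubgroup x C.n 0)
  rw [hT, hN, Nat.mul_comm] at this
  rwa [Nat.eq_of_mul_eq_mul_left (pow_pos hp.pos _) this]

/-- The checks for a cyclic Sylow subgroup of prime order. -/
noncomputable def cycOK (p : ℕ) (u : List ℕ) : Bool :=
  S.same (List.flatten (List.replicate p u)) [] && S.lettersOK u &&
    !below S.N fun i => Nat.beq (S.imgT (S.tabs u) i) i

theorem ker_eq_bot_of_cyc {S : Sys} (hS : S.OK = true) {Γ : Type*} [Group Γ] [Finite Γ]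
    {p : ℕ} (hp : p.Prime) (u : List ℕ) (hok : S.cycOK p u = true) {N : ℕ}
    (hN : Nat.card S.grp = p * N) (hNp : ¬ p ∣ N) (σ : Γ →* S.grp)
    (hσ : Cfsg.IsStemExtension σ) (hexp : ∀ z ∈ σ.ker, z ^ p = 1) : σ.ker = ⊥ := by
  haveI : Fact p.Prime := ⟨hp⟩
  simp only [cycOK, Bool.and_eq_true, Bool.not_eq_true'] at hok
  obtain ⟨⟨h1, hu⟩, h2⟩ := hok
  have hflat : ∀ m, ev (S.x hS) (List.flatten (List.replicate m u)) = ev (S.x hS) u ^ m := by
    intro m
    induction m with
    | zero => rfl
    | succ m ih =>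
      rw [List.replicate_succ, List.flatten_cons, Schur.Pc.ev_append, ih, pow_succ']
  have hpow : ev (S.x hS) u ^ p = 1 := by rw [← hflat, same_grp hS h1]; rfl
  have hne : ev (S.x hS) u ≠ 1 := by
    intro h
    have : (below S.N fun i => Nat.beq (S.imgT (S.tabs u) i) i) = true := by
      simp only [below_iff]
      intro i hi
      have h3 := ev_apply hS hu ⟨i, hi⟩
      rw [← coe_ev hS, h] at h3
      show Nat.beq (S.imgT (S.tabs u) (⟨i, hi⟩ : Fin S.N).1) i = true
      rw [← h3]
      exact Nat.beq_refl i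
    rw [this] at h2
    simp at h2
  refine Schur.ker_eq_bot_of_index_zpowers hp (ev (S.x hS) u) ?_ σ hσ hexp
  have := Subgroup.index_mul_card (Subgroup.zpowers (ev (S.x hS) u))
  rw [Nat.card_zpowers, orderOf_eq_prime hpow hne, hN, Nat.mul_comm] at this
  rwa [Nat.eq_of_mul_eq_mul_left hp.pos this]

/-- Distinct images of one point under the listed words, which fix the points before it. -/
noncomputable def levelOK (xi : List ℕ) (n : ℕ) (before : List ℕ) (b : ℕ) (ws : List (List ℕ)) :
    Bool :=
  Nat.blt b S.N &&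
    ws.all (fun w => w.all (fun a => Nat.blt a n) && S.lettersOK (w.map fun a => xi.getD a S.n) &&
      before.all fun c => Nat.beq (S.imgT (S.tabs (w.map fun a => xi.getD a S.n)) c) c) &&
    nodupMask (ws.map fun w => S.imgT (S.tabs (w.map fun a => xi.getD a S.n)) b) 0

/-- A chain of points with words for their orbits. -/
noncomputable def chainOK (xi : List ℕ) (n : ℕ) : List ℕ → List (ℕ × List (List ℕ)) → Bool
  | _, [] => true
  | before, (b, ws) :: L => S.levelOK xi n before b ws && chainOK xi n (b :: before) L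

theorem le_card_chain {S : Sys} (hS : S.OK = true) (xi : List ℕ) (n : ℕ) :
    ∀ (L : List (ℕ × List (List ℕ))) (before : List ℕ) (H : Subgroup S.grp),
      S.chainOK xi n before L = true →
      (∀ w : List ℕ, (∀ a ∈ w, a < n) → S.lettersOK (w.map fun a => xi.getD a S.n) = true →
        (∀ c ∈ before, S.imgT (S.tabs (w.map fun a => xi.getD a S.n)) c = c) →
        ev (fun a => S.x hS (xi.getD a S.n)) w ∈ H) →
      (L.map fun e => e.2.length).prod ≤ Nat.card H := by
  intro L
  induction L with
  | nil => intro before H _ _; exact Nat.card_pos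
  | cons e L ih =>
    obtain ⟨b, ws⟩ := e
    intro before H hchk hH
    simp only [chainOK, levelOK, Bool.and_eq_true, List.all_eq_true] at hchk
    obtain ⟨⟨⟨hb, hws⟩, hnd⟩, hrest⟩ := hchk
    have hb' : b < S.N := Nat.le_of_ble_eq_true hb
    let pb : Fin S.N := ⟨b, hb'⟩
    let x : ℕ → S.grp := fun a => S.x hS (xi.getD a S.n)
    have hev : ∀ w, ev x w = ev (S.x hS) (w.map fun a => xi.getD a S.n) := fun w => by
      simp only [ev, List.map_map]; rfl
    have himg : ∀ w, S.lettersOK (w.map fun a => xi.getD a S.n) = true → ∀ (c : Fin S.N),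
        (((ev x w).1 c : Fin S.N) : ℕ) = S.imgT (S.tabs (w.map fun a => xi.getD a S.n)) c := by
      intro w hw c
      rw [hev, coe_ev, ev_apply hS hw]
    let K : Subgroup S.grp :=
      { carrier := {g | g ∈ H ∧ g.1 pb = pb}
        one_mem' := ⟨one_mem H, rfl⟩
        mul_mem' := fun {g h} hg hh => ⟨mul_mem hg.1 hh.1, by
          rw [Subgroup.coe_mul, Equiv.Perm.mul_apply, hh.2, hg.2]⟩
        inv_mem' := fun {g} hg => ⟨inv_mem hg.1, by
          rw [Subgroup.coe_inv]
          conv_lhs => rw [← hg.2]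
          exact g.1.symm_apply_apply pb⟩ }
    have hK := ih (b :: before) K hrest fun w h1 h2 h3 => ⟨hH w h1 h2 fun c hc =>
      h3 c (List.mem_cons_of_mem _ hc), Fin.ext (by
        rw [himg w h2]; exact h3 b List.mem_cons_self)⟩
    have hnodup := (nodupMask_sound _ 0 hnd).1
    have hwsH : ∀ w ∈ ws, ev x w ∈ H := by
      intro w hw
      obtain ⟨⟨h1, h2⟩, h3⟩ := hws w hw
      exact hH w (fun a ha => Nat.le_of_ble_eq_true (h1 a ha)) h2
        fun c hc => Nat.eq_of_beq_eq_true (h3 c hc)
    have hle : ws.length * Nat.card K ≤ Nat.card H := by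
      let f : Fin ws.length × K → H := fun q =>
        ⟨ev x ws[q.1.1] * q.2.1, mul_mem (hwsH _ (List.getElem_mem _)) q.2.2.1⟩
      have hf : Function.Injective f := by
        rintro ⟨i, k⟩ ⟨j, l⟩ e
        have e' : ev x ws[i.1] * k.1 = ev x ws[j.1] * l.1 := congrArg Subtype.val e
        have e2 := congrArg (fun g : S.grp => (g.1 pb : ℕ)) e'
        simp only [Subgroup.coe_mul, Equiv.Perm.mul_apply, k.2.2, l.2.2] at e2
        rw [himg _ (hws _ (List.getElem_mem _)).1.2, himg _ (hws _ (List.getElem_mem _)).1.2] at e2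
        have hij : i = j := by
          refine Fin.ext ((List.Nodup.getElem_inj_iff hnodup
            (hi := by simp) (hj := by simp)).1 ?_)
          simpa using e2
        subst hij
        exact Prod.ext rfl (Subtype.ext (mul_left_cancel e'))
      have := Nat.card_le_card_of_injective f hf
      rwa [Nat.card_prod, Nat.card_fin] at this
    rw [List.map_cons, List.prod_cons]
    exact (Nat.mul_le_mul_left _ hK).trans hle

/-- The rule with number `k` holds. -/
noncomputable def ruleAt2 (C : Schur.Two.Cert) (xi : List ℕ) (k : ℕ) : Bool :=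
  S.same ((C.rules.getD k ([], [])).1.map fun a => xi.getD a S.n)
    ((C.rules.getD k ([], [])).2.map fun a => xi.getD a S.n)

/-- The fusion with number `k` holds. -/
noncomputable def fusAt2 (C : Schur.Two.Cert) (xi : List ℕ) (gs : List (List ℕ)) (k : ℕ) : Bool :=
  (List.range 16).all fun s =>
    S.same (gs.getD k [] ++ ((C.fus.getD k ([], [])).1.getD s []).map fun a => xi.getD a S.n)
      ((((C.fus.getD k ([], [])).2.getD s []).map fun a => xi.getD a S.n) ++ gs.getD k [])

theorem ker_eq_bot_of_cert2 {S : Sys} (hS : S.OK = true) {Γ : Type*} [Group Γ] [Finite Γ]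
    (C : Schur.Two.Cert) (xi : List ℕ) (gs : List (List ℕ)) (levels : List (ℕ × List (List ℕ)))
    (heqs : C.eqsCheck = true) (hlin : C.linCheck = true)
    (hrules : ∀ k < C.rules.length, S.ruleAt2 C xi k = true)
    (hfus : ∀ k < C.fus.length, S.fusAt2 C xi gs k = true)
    (hchain : S.chainOK xi C.n [] levels = true)
    (hsize : (levels.map fun e => e.2.length).prod = 2 ^ C.n)
    {N : ℕ} (hN : Nat.card S.grp = 2 ^ C.n * N) (hNp : ¬ 2 ∣ N) (σ : Γ →* S.grp)
    (hσ : Cfsg.IsStemExtension σ) (hexp : ∀ z ∈ σ.ker, z ^ 2 = 1) : σ.ker = ⊥ := by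
  let x : ℕ → S.grp := fun a => S.x hS (xi.getD a S.n)
  have hev : ∀ u, ev x u = ev (S.x hS) (u.map fun a => xi.getD a S.n) := fun u => by
    simp only [ev, List.map_map]; rfl
  have hall : ∀ l ∈ C.rules, ev x l.1 = ev x l.2 := fun l hl => by
    obtain ⟨k, hk, rfl⟩ := List.getElem_of_mem hl
    have h := hrules k hk
    simp only [ruleAt2, List.getD_eq_getElem _ _ hk] at h
    rw [hev, hev]; exact same_grp hS h
  have hr : ∀ a b, a ≤ b → b < C.n → x b * x a = ev x (C.rule b a) := by
    intro a b hab hb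
    have h := hall ([b, a], C.rule b a) (by
      simp only [Schur.Two.Cert.rules, List.mem_flatMap, List.mem_map, List.mem_range]
      exact ⟨b, hb, a, by omega, rfl⟩)
    rw [Schur.Pc.ev_cons, Schur.Pc.ev_cons, Schur.Pc.ev_nil, mul_one] at h
    exact h
  have hf : ∀ F ∈ C.fus, ∃ g : S.grp, ∀ s < 16,
      g * ev x (F.1.getD s []) * g⁻¹ = ev x (F.2.getD s []) := by
    intro F hF
    obtain ⟨i, hi, rfl⟩ := List.getElem_of_mem hF
    refine ⟨ev (S.x hS) (gs.getD i []), fun s hs => ?_⟩
    have h0 := hfus i hi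
    simp only [fusAt2, List.all_eq_true, List.mem_range, List.getD_eq_getElem _ _ hi] at h0
    have h := same_grp hS (h0 s hs)
    rw [Schur.Pc.ev_append, Schur.Pc.ev_append] at h
    rw [hev, hev, mul_inv_eq_iff_eq_mul]
    exact h
  have hcard : 2 ^ C.n ≤ Nat.card (tailSubgroup x C.n 0) := by
    rw [← hsize]
    exact le_card_chain hS xi C.n levels [] _ hchain fun w h1 _ _ =>
      Schur.Pc.ev_mem _ fun a ha => Schur.Pc.gen_mem_tailSubgroup x (Nat.zero_le a) (h1 a ha)
  refine C.ker_eq_bot σ hσ hexp heqs hlin x hr hf hcard ?_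
  have hshape : Schur.Pc.shaped 2 C.n C.rules = true := by
    simp only [Schur.Two.Cert.linCheck, Bool.and_eq_true] at hlin
    exact hlin.1.2
  have hT : Nat.card (tailSubgroup x C.n 0) = 2 ^ C.n :=
    le_antisymm (Schur.Pc.card_tailSubgroup_le x hshape hall C.n 0 (Nat.zero_add _)) hcard
  have := Subgroup.index_mul_card (tailSubgroup x C.n 0)
  rw [hT, hN, Nat.mul_comm] at this
  rwa [Nat.eq_of_mul_eq_mul_left (pow_pos (by norm_num) _) this]

/-- A surjection with the shift as kernel, of a group without multiplier, gives the multiplier. -/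
theorem hasCyclicSchurMultiplier_quot {S : Sys} (hS : S.OK = true) (hM : 0 < S.M) {G : Type}
    [Group G] [Finite G] (hG : Group.IsPerfect G) (τ : S.grp →* G) (hτ : Function.Surjective τ)
    (hker : τ.ker = Subgroup.zpowers (S.x hS S.n)) (hz : S.x hS S.n ∈ commutator S.grp)
    (hno : Cfsg.HasCyclicSchurMultiplier S.grp 1) : Cfsg.HasCyclicSchurMultiplier G S.p := by
  have hc : τ.ker ≤ Subgroup.center S.grp := by
    rw [hker, Subgroup.zpowers_le]; exact shift_central hS
  have hst : Cfsg.IsStemExtension τ := by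
    refine ⟨hτ, hc, ?_⟩
    rw [hker, Subgroup.zpowers_le]; exact hz
  have hperf : commutator S.grp = ⊤ :=
    MultPSL.commutator_eq_top_of_stem τ hst (Group.isPerfect_def.mp hG)
  have hno' : ∀ (Δ : Type) [Group Δ] [Finite Δ] (ρ : Δ →* commutator S.grp),
      Cfsg.IsStemExtension ρ → ρ.ker = ⊥ := by
    intro Δ _ _ ρ hρ
    obtain ⟨π, hπ⟩ := (SchurBound.hasSchurMultiplier_congr
      ((Subgroup.topEquiv).symm.trans (MulEquiv.subgroupCongr hperf.symm)) hno).2 Δ ρ hρ
    haveI : Subsingleton (Multiplicative (ZMod 1)) := Equiv.subsingleton Multiplicative.toAdd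
    rw [Subgroup.eq_bot_iff_forall]
    intro a ha
    obtain ⟨b, hb⟩ := hπ ⟨a, ha⟩
    have : b = 1 := Subsingleton.elim _ _
    rw [this, map_one] at hb
    exact (congrArg Subtype.val hb).symm
  have hcard : Nat.card τ.ker = S.p := by
    rw [hker, Nat.card_zpowers, orderOf_shift hS hM]
  haveI : IsCyclic τ.ker := by rw [hker]; infer_instance
  refine MultPSL.hasCyclicSchurMultiplier_of_bound τ hst hcard ?_
  intro Δ _ _ σ hσ
  obtain ⟨π, hπ⟩ := Schur.exists_ker_surjective τ hτ hc hG hno' σ hσ
  have h1 : Nat.card (τ.comp (commutator S.grp).subtype).ker ≤ Nat.card τ.ker :=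
    Nat.card_le_card_of_injective (fun a => (⟨a.1.1, a.2⟩ : τ.ker))
      fun a b e => Subtype.ext (Subtype.ext (by simpa using congrArg Subtype.val e))
  have h2 := (Nat.card_le_card_of_surjective π hπ).trans h1
  rw [← Subgroup.card_mul_index σ.ker, ← Subgroup.card_mul_index τ.ker, Subgroup.index_ker,
    Subgroup.index_ker, MonoidHom.range_eq_top.2 hσ.1, MonoidHom.range_eq_top.2 hτ]
  exact Nat.mul_le_mul_right _ h2

end Sys

end CfsgLib.CoverTab
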