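import Cfsg.Agent.SchurBound.Basic
import Mathlib.Algebra.Group.ULift

/-!
# Multipliers under isomorphisms between universes
-/

set_option autoImplicit false
set_option linter.style.haveILetI false

namespace CfsgLib.CoverTab

universe u v w

theorem isStem_comp {Γ Γ' G G' : Type*} [Group Γ] [Group Γ'] [Group G] [Group G'] (e : G ≃* G')
    (f : Γ' ≃* Γ) (σ : Γ →* G) (hσ : Cfsg.IsStemExtension σ) :
    Cfsg.IsStemExtension (e.toMonoidHom.comp (σ.comp f.toMonoidHom)) ∧
      Nonempty ((e.toMonoidHom.comp (σ.comp f.toMonoidHom)).ker ≃* σ.ker) := by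
  have hk : ∀ x, x ∈ (e.toMonoidHom.comp (σ.comp f.toMonoidHom)).ker ↔ f x ∈ σ.ker := fun x => by
    rw [MonoidHom.mem_ker, MonoidHom.mem_ker, MonoidHom.comp_apply, MonoidHom.comp_apply,
      MulEquiv.coe_toMonoidHom, MulEquiv.coe_toMonoidHom, EmbeddingLike.map_eq_one_iff]
  refine ⟨⟨e.surjective.comp (hσ.1.comp f.surjective), fun x hx => ?_, fun x hx => ?_⟩, ⟨?_⟩⟩
  · rw [Subgroup.mem_center_iff]
    intro y
    apply f.injective
    rw [map_mul, map_mul, Subgroup.mem_center_iff.1 (hσ.2.1 ((hk x).1 hx)) (f y)]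
  · have h1 : (commutator Γ').map f.toMonoidHom = commutator Γ := by
      rw [commutator_def, Subgroup.map_commutator,
        Subgroup.map_top_of_surjective _ f.surjective, ← commutator_def]
    obtain ⟨y, hy, e'⟩ := h1.ge (hσ.2.2 ((hk x).1 hx))
    rwa [f.injective e'] at hy
  · exact
      { toFun := fun x => ⟨f x.1, (hk x.1).1 x.2⟩
        invFun := fun y => ⟨f.symm y.1, (hk _).2 (by rw [f.apply_symm_apply]; exact y.2)⟩
        left_inv := fun x => Subtype.ext (f.symm_apply_apply _)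
        right_inv := fun y => Subtype.ext (f.apply_symm_apply _)
        map_mul' := fun x y => Subtype.ext (map_mul f _ _) }

/-- The multiplier of a group isomorphic to a small one. -/
theorem hasSchurMultiplier_transfer {G : Type} [Group G] {H : Type u} [Group H] (e : G ≃* H)
    {A : Type v} [CommGroup A] (h : Cfsg.HasSchurMultiplier G A) :
    Cfsg.HasSchurMultiplier H A := by
  obtain ⟨⟨Γ, i1, i2, σ, hσ, ⟨k⟩⟩, huniv⟩ := h
  obtain ⟨hs, ⟨k'⟩⟩ := isStem_comp e (MulEquiv.ulift : ULift.{u} Γ ≃* Γ) σ hσ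
  refine ⟨⟨ULift.{u} Γ, inferInstance, inferInstance, _, hs, ⟨k'.trans k⟩⟩, ?_⟩
  intro Δ _ _ τ hτ
  let T : Type := {i : Fin (Nat.card Δ) // True}
  let eq : T ≃ Δ := (Equiv.subtypeUnivEquiv fun _ => trivial).trans (Finite.equivFin Δ).symm
  letI : Group T := eq.group
  let f : T ≃* Δ := { toEquiv := eq, map_mul' := fun a b => eq.apply_symm_apply _ }
  obtain ⟨hs', ⟨k''⟩⟩ := isStem_comp e.symm f τ hτ
  obtain ⟨π, hπ⟩ := huniv T _ hs'
  exact ⟨k''.toMonoidHom.comp π, k''.surjective.comp hπ⟩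

end CfsgLib.CoverTab
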